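import Groth.Agent.H19Chev.MinProperQuotient
import Groth.Agent.H19Chev.SmoothQuotient
import Groth.Agent.H19Chev.SemiAb
import Groth.Agent.H26OneMot.SemiAb
import Groth.Agent.H25AbCube.MulN
import Groth.Agent.H21Diag.BaseChange
import Groth.Agent.H21Rank1.CellPts
import Groth.Agent.H19Chev.Complement

/-!
# Semi-abelian varieties over a field: divisibility
-/

set_option autoImplicit false
set_option linter.style.haveILetI false
set_option backward.isDefEq.respectTransparency false
set_option maxHeartbeats 1000000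
set_option synthInstance.maxHeartbeats 400000
universe u

open CategoryTheory CategoryTheory.Limits MonoidalCategory CartesianMonoidalCategory MonObj AlgebraicGeometry
open Groth.Agent Groth.Agent.H25AbCube Groth.Agent.H19Quot

noncomputable section

namespace Groth.Agent.H19SemiAb

attribute [local instance] Functor.grpObjObj

variable {k : Type u} [Field k]

local notation "Pts" X => 𝟙_ (Over (Spec (CommRingCat.of k))) ⟶ X

theorem isCommMonObj_of_comm {G : Over (Spec (CommRingCat.of k))} [GrpObj G]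
    (h : ∀ (X : Over (Spec (CommRingCat.of k))) (f g : X ⟶ G), f * g = g * f) : IsCommMonObj G where
  mul_comm := by
    have hμ : μ[G] = fst G G * snd G G := by rw [Hom.mul_def, lift_fst_snd, Category.id_comp]
    rw [hμ, MonObj.comp_mul, braiding_hom_fst, braiding_hom_snd, h]

/-- Post-composition with a homomorphism. -/
def post {X G H : Over (Spec (CommRingCat.of k))} [GrpObj G] [GrpObj H] (f : G ⟶ H) [IsMonHom f] :
    (X ⟶ G) →* (X ⟶ H) := MonoidHom.mk' (fun a => a ≫ f) fun a b => MonObj.mul_comp a b f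

theorem post_pow {X G H : Over (Spec (CommRingCat.of k))} [GrpObj G] [GrpObj H] (f : G ⟶ H) [IsMonHom f]
    (a : X ⟶ G) (n : ℕ) : (a ^ n) ≫ f = (a ≫ f) ^ n := map_pow (post f) a n

/-- An extension of an abelian variety by a torus. -/
def IsSA (G : Over (Spec (CommRingCat.of k))) [GrpObj G] : Prop :=
  ∃ (T : Over (Spec (CommRingCat.of k))) (_ : GrpObj T) (i : T ⟶ G) (A : Over (Spec (CommRingCat.of k)))
    (_ : GrpObj A) (q : G ⟶ A), IsMonHom i ∧ IsClosedImmersion i.left ∧ Red.IsTorus T ∧ IsMonHom q ∧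
      Surjective q.left ∧ Flat q.left ∧ AlgGrp.IsKernel i q ∧ IsProper A.hom ∧ Smooth A.hom ∧ ConnectedSpace ↥A.left

theorem IsSA.props {G : Over (Spec (CommRingCat.of k))} [GrpObj G] (h : IsSA G)
    [LocallyOfFiniteType G.hom] [QuasiCompact G.hom] :
    Smooth G.hom ∧ ConnectedSpace G.left ∧ IsCommMonObj G := by
  obtain ⟨T, gT, i, A, gA, q, hi, hic, hT, hq, hqs, hqf, hk, hAp, hAs, hAc⟩ := h
  haveI := hi; haveI := hq; haveI := hqs; haveI := hqf; haveI := hAp; haveI := hAs; haveI := hAc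
  obtain ⟨hs, hc, hcomm⟩ := H19Chev.SemiAb.props i hT q hk
  exact ⟨hs, hc, isCommMonObj_of_comm fun X f g => hcomm f g⟩

/-- Being a torus descends to the base field. -/
theorem isTorus_of_bc {K : Type u} [Field K] [Algebra k K] {T : Over (Spec (CommRingCat.of k))} [GrpObj T]
    (h : Red.IsTorus ((GeomTate.bc k K).obj T)) : Red.IsTorus T := by
  haveI := GeomTate.flat_σ k K
  haveI := GeomTate.surjective_σ k K
  obtain ⟨S', f, hf, hs, hqc, hloc⟩ := h
  haveI := hf; haveI := hs
  refine ⟨S', f ≫ GeomTate.σ k K, inferInstance, inferInstance, fun V hV => ?_, fun s' => ?_⟩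
  · haveI : IsAffineHom (GeomTate.σ k K) := inferInstance
    obtain ⟨W, hW, hWV⟩ := hqc (GeomTate.σ k K ⁻¹ᵁ V) (hV.preimage _)
    refine ⟨W, hW, ?_⟩
    show (fun x => (GeomTate.σ k K).base (f.base x)) '' (W : Set S') = _
    rw [← Set.image_image (GeomTate.σ k K).base f.base, hWV]
    exact Set.image_preimage_eq _ (GeomTate.σ k K).surjective
  · obtain ⟨U, hU, r, ⟨e⟩⟩ := hloc s'
    exact ⟨U, hU, r, ⟨H21Diag.bcCongrIso (Category.assoc U.ι f (GeomTate.σ k K)).symm T ≪≫
      H21Diag.bcCompIso (U.ι ≫ f) (GeomTate.σ k K) T ≪≫ e⟩⟩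

/-- Powers are endomorphisms of a commutative group. -/
theorem isMonHom_pow (G : Over (Spec (CommRingCat.of k))) [GrpObj G] [IsCommMonObj G] (n : ℕ) :
    IsMonHom ((𝟙 G) ^ n : G ⟶ G) := by
  refine ⟨?_, ?_⟩
  · rw [H19Chev.comp_id_pow]
    have e : η[G] = (1 : 𝟙_ _ ⟶ G) := by
      rw [Hom.one_def, toUnit_unique (toUnit _) (𝟙 _), Category.id_comp]
    rw [e, one_pow]
  · have hμ : μ[G] = fst G G * snd G G := by rw [Hom.mul_def, lift_fst_snd, Category.id_comp]
    have hr : (((𝟙 G) ^ n : G ⟶ G) ⊗ₘ ((𝟙 G) ^ n : G ⟶ G)) ≫ μ[G] =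
        (fst G G ≫ ((𝟙 G) ^ n : G ⟶ G)) * (snd G G ≫ ((𝟙 G) ^ n : G ⟶ G)) := by
      rw [Hom.mul_def, lift_fst_comp_snd_comp]
    rw [H19Chev.comp_id_pow, hr, hμ, H19Chev.comp_id_pow, H19Chev.comp_id_pow, mul_pow]

/-- A homomorphism which is surjective on rational points over an algebraically closed field is surjective. -/
theorem surjective_of_pts [IsAlgClosed k] {X Y : Over (Spec (CommRingCat.of k))} [GrpObj X] [GrpObj Y]
    [LocallyOfFiniteType X.hom] [QuasiCompact X.hom] [LocallyOfFiniteType Y.hom] [QuasiCompact Y.hom]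
    (f : X ⟶ Y) [IsMonHom f] (h : ∀ y : Pts Y, ∃ x : Pts X, x ≫ f = y) : Surjective f.left := by
  obtain ⟨C, gC, p, i, hp, hi, hpi, hpf, hps, hpp, hic⟩ :=
    AbelianCat.exists_image f ⟨inferInstance, inferInstance⟩ ⟨inferInstance, inferInstance⟩
  haveI := hps; haveI := hic
  haveI : JacobsonSpace Y.left := LocallyOfFiniteType.jacobsonSpace Y.hom
  have hsub : closedPoints Y.left ⊆ Set.range i.left := fun z hz => by
    obtain ⟨y, rfl⟩ := Stab.exists_pnt hz
    obtain ⟨x, hx⟩ := h y
    refine ⟨Stab.pnt (x ≫ p), ?_⟩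
    show i.left ((x ≫ p).left _) = y.left _
    rw [← Scheme.Hom.comp_apply, ← Over.comp_left, Category.assoc, hpi, hx]
  haveI : Surjective i.left := ⟨fun y => by
    have := closure_minimal hsub i.left.isClosedEmbedding.isClosed_range
    rw [closure_closedPoints] at this
    exact this trivial⟩
  rw [← hpi, Over.comp_left]; infer_instance

/-- Points of semi-abelian varieties over an algebraically closed field are divisible. -/
theorem IsSA.pts_divisible [IsAlgClosed k] {G : Over (Spec (CommRingCat.of k))} [GrpObj G] (h : IsSA G)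
    [LocallyOfFiniteType G.hom] [QuasiCompact G.hom] {n : ℕ} (hn : 0 < n) (g : Pts G) :
    ∃ x : Pts G, x ^ n = g := by
  obtain ⟨-, -, hG⟩ := h.props
  haveI := hG
  obtain ⟨T, gT, i, A, gA, q, hi, hic, hT, hq, hqs, hqf, hk, hAp, hAs, hAc⟩ := h
  haveI := hi; haveI := hq; haveI := hqs; haveI := hqf; haveI := hAp; haveI := hAs; haveI := hAc
  haveI : GeometricallyIntegral A.hom := H19Chev.geometricallyIntegral_grp A
  haveI : IsCommMonObj A := isCommMonObj_of_av
  haveI : IsCommMonObj T := isCommMonObj_of_comm fun X f g => H21Rank1.isTorus_comm hT f g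
  haveI : Surjective ((𝟙 A) ^ n : A ⟶ A).left := surjective_pow hn
  obtain ⟨b, hb⟩ := H19Chev.exists_pt_lift ((𝟙 A) ^ n : A ⟶ A) (g ≫ q)
  obtain ⟨y, rfl⟩ := H19Chev.exists_pt_lift q b
  rw [H19Chev.comp_id_pow] at hb
  have hpq : (y ^ n) ≫ q = (y ≫ q) ^ n := post_pow q y n
  obtain ⟨t, ht⟩ := H19Grp.kernel_lift hk (g * (y ^ n)⁻¹) (by
    rw [MonObj.mul_comp, GrpObj.inv_comp, hpq, hb, mul_inv_cancel])
  obtain ⟨s, hs⟩ : ∃ s : Pts T, s ^ n = t := H26OneMot.torus_divisible hT hn t
  refine ⟨(s ≫ i) * y, ?_⟩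
  have hsi : (s ≫ i) ^ n = t ≫ i := by
    rw [← hs]; exact (post_pow i s n).symm
  rw [mul_pow, hsi, ht, inv_mul_cancel_right]

theorem IsSA.bc {K : Type u} [Field K] [Algebra k K] {G : Over (Spec (CommRingCat.of k))} [GrpObj G] (h : IsSA G) :
    IsSA ((GeomTate.bc k K).obj G) := by
  obtain ⟨T, gT, i, A, gA, q, hi, hic, hT, hq, hqs, hqf, hk, hAp, hAs, hAc⟩ := h
  haveI := hi; haveI := hic; haveI := hq; haveI := hqs; haveI := hqf; haveI := hAp; haveI := hAs; haveI := hAc
  let F := GeomTate.bc k K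
  haveI : GeometricallyConnected A.hom :=
    H28NT.geometricallyConnected_of_section A.hom η[A].left (Over.w η[A])
  exact ⟨F.obj T, inferInstance, F.map i, F.obj A, inferInstance, F.map q, inferInstance,
    MorphismProperty.overPullbackMap _ _ inferInstance, H21Diag.isTorus_bc hT (GeomTate.σ k K), inferInstance,
    MorphismProperty.overPullbackMap _ _ inferInstance, MorphismProperty.overPullbackMap _ _ inferInstance,
    H19Chev.SemiAb.isKernel_bc _ i q hk, GeomTate.isProper_bc A,
    inferInstanceAs (Smooth (pullback.snd A.hom (GeomTate.σ k K))),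
    inferInstanceAs (ConnectedSpace ↥(pullback A.hom (GeomTate.σ k K)))⟩

/-- Base change of powers. -/
theorem map_pow_bc {K : Type u} [Field K] [Algebra k K] (G : Over (Spec (CommRingCat.of k))) [GrpObj G] (n : ℕ) :
    (GeomTate.bc k K).map ((𝟙 G) ^ n : G ⟶ G) = (𝟙 ((GeomTate.bc k K).obj G)) ^ n := by
  rw [← (GeomTate.bc k K).map_id G]
  exact map_pow (Functor.homMonoidHom (GeomTate.bc k K)) _ n

/-- Multiplication by a positive integer on a semi-abelian variety is surjective. -/
theorem IsSA.surjective_pow {G : Over (Spec (CommRingCat.of k))} [GrpObj G] (h : IsSA G)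
    [LocallyOfFiniteType G.hom] [QuasiCompact G.hom] {n : ℕ} (hn : 0 < n) :
    Surjective ((𝟙 G) ^ n : G ⟶ G).left := by
  let K := AlgebraicClosure k
  let F := GeomTate.bc k K
  haveI := GeomTate.surjective_σ k K
  haveI : LocallyOfFiniteType (F.obj G).hom :=
    inferInstanceAs (LocallyOfFiniteType (pullback.snd G.hom (GeomTate.σ k K)))
  haveI : QuasiCompact (F.obj G).hom := inferInstanceAs (QuasiCompact (pullback.snd G.hom (GeomTate.σ k K)))
  have hK : IsSA (F.obj G) := h.bc
  haveI := hK.props.2.2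
  haveI := isMonHom_pow (F.obj G) n
  haveI : Surjective ((𝟙 (F.obj G)) ^ n : F.obj G ⟶ F.obj G).left := surjective_of_pts _ fun y => by
    obtain ⟨x, hx⟩ := hK.pts_divisible hn y
    exact ⟨x, by rw [H19Chev.comp_id_pow, hx]⟩
  haveI : Surjective (pullback.fst G.hom (GeomTate.σ k K)) :=
    MorphismProperty.pullback_fst (P := @Surjective) _ _ inferInstance
  haveI : Surjective ((F.map ((𝟙 G) ^ n : G ⟶ G)).left ≫ pullback.fst G.hom (GeomTate.σ k K)) := by
    rw [map_pow_bc]; infer_instance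
  haveI : Surjective (pullback.fst G.hom (GeomTate.σ k K) ≫ ((𝟙 G) ^ n : G ⟶ G).left) := by
    rw [← (H19Chev.isPullback_bc K ((𝟙 G) ^ n : G ⟶ G)).w]; infer_instance
  exact Surjective.of_comp (pullback.fst G.hom (GeomTate.σ k K)) _

end Groth.Agent.H19SemiAb
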