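import Groth.Agent.H19SemiAb.Basic
import Groth.Agent.H19Chev.UniKilled
import Groth.Agent.H20OT.Eigen

/-!
# In characteristic p a connected commutative affine group with surjective p-th power map is a torus
-/

set_option autoImplicit false
set_option linter.style.haveILetI false
set_option backward.isDefEq.respectTransparency false
set_option maxHeartbeats 1000000
set_option synthInstance.maxHeartbeats 400000
universe u

open CategoryTheory CategoryTheory.Limits MonoidalCategory CartesianMonoidalCategory MonObj AlgebraicGeometry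
open Groth.Agent Groth.Agent.H25AbCube Groth.Agent.H19Quot HopfRep

noncomputable section

namespace Groth.Agent.H19SemiAb

attribute [local instance] Functor.grpObjObj

variable {k : Type u} [Field k]

/-- The power map of the group of a Hopf algebra. -/
theorem id_pow_left {A : Type u} [CommRing A] [HopfAlgebra k A] (n : ℕ) :
    ((𝟙 (H21Hom.specGrp k A)) ^ n : H21Hom.specGrp k A ⟶ H21Hom.specGrp k A).left =
      Spec.map (CommRingCat.ofHom (SGA3b.powConv k A n).toRingHom) := by
  have h : Spec.mapMulEquiv ((WithConv.toConv (AlgHom.id k A)) ^ n) =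
      (Spec.mapMulEquiv (WithConv.toConv (AlgHom.id k A))) ^ n := map_pow _ _ _
  have h1 : Spec.mapMulEquiv (R := k) (WithConv.toConv (AlgHom.id k A)) = 𝟙 (H21Hom.specGrp k A) := by
    apply Over.OverMorphism.ext
    show Spec.map (CommRingCat.ofHom (AlgHom.id k A).toRingHom) = 𝟙 (Spec (CommRingCat.of A))
    rw [show CommRingCat.ofHom (AlgHom.id k A).toRingHom = 𝟙 (CommRingCat.of A) from rfl, Spec.map_id]
  rw [h1] at h
  rw [← h]
  rfl

/-- In characteristic p, surjectivity of the p-th power forces a torus. -/
theorem isTorus_of_surjective_pow (p : ℕ) [Fact p.Prime] [CharP k p] (G : Over (Spec (CommRingCat.of k))) [GrpObj G]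
    [IsCommMonObj G] [Smooth G.hom] [ConnectedSpace G.left] [IsAffine G.left] [QuasiCompact G.hom]
    [Surjective ((𝟙 G) ^ p : G ⟶ G).left] : Red.IsTorus G := by
  classical
  let K := AlgebraicClosure k
  let F := GeomTate.bc k K
  haveI : CharP K p := charP_of_injective_algebraMap (algebraMap k K).injective p
  obtain ⟨A, _, _, _, _, _, ⟨eA⟩⟩ := H19Chev.TorusCriterion.exists_model G
  refine (H19Chev.TorusCriterion.isTorus_iff_isDiag G eA).2
    (H19Chev.TorusCriterion.isDiag_of_uni_scalar fun b hb => ?_)
  let E : F.obj G ≅ H21Hom.specGrp K A := (Grp.forget _).mapIso eA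
  haveI : IsMonHom E.hom := eA.hom.hom.isMonHom_hom
  haveI : Surjective (F.map ((𝟙 G) ^ p : G ⟶ G)).left := MorphismProperty.overPullbackMap _ _ inferInstance
  haveI h1 : Surjective ((𝟙 (H21Hom.specGrp K A)) ^ p : H21Hom.specGrp K A ⟶ H21Hom.specGrp K A).left := by
    have e : ((𝟙 (H21Hom.specGrp K A)) ^ p : H21Hom.specGrp K A ⟶ H21Hom.specGrp K A) =
        E.inv ≫ F.map ((𝟙 G) ^ p : G ⟶ G) ≫ E.hom := by
      rw [map_pow_bc, H19Chev.id_pow_comp, ← Category.assoc, E.inv_hom_id, Category.id_comp]
    rw [e, Over.comp_left, Over.comp_left]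
    haveI : IsIso E.inv.left := inferInstanceAs (IsIso ((Over.forget _).map E.inv))
    haveI : IsIso E.hom.left := inferInstanceAs (IsIso ((Over.forget _).map E.hom))
    infer_instance
  have hinj : Function.Injective (SGA3b.powConv K A p) := by
    refine (injective_iff_map_eq_zero _).2 fun a ha => ?_
    rw [id_pow_left] at h1
    refine IsNilpotent.eq_zero (nilpotent_iff_mem_prime.2 fun P hP => ?_)
    obtain ⟨P', hP'⟩ := h1.surj ⟨P, hP⟩
    rw [show P = Ideal.comap (SGA3b.powConv K A p).toRingHom P'.asIdeal from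
      (congrArg PrimeSpectrum.asIdeal hP').symm]
    show SGA3b.powConv K A p a ∈ P'.asIdeal
    rw [ha]
    exact zero_mem _
  obtain ⟨n, hn⟩ := hb
  obtain ⟨N, hN⟩ : ∃ N, n < p ^ N :=
    ⟨n + 1, lt_of_lt_of_le (Nat.lt_succ_self n) (Nat.lt_pow_self (Fact.out : p.Prime).one_lt).le⟩
  have hpow : ∀ N, Function.Injective (SGA3b.powConv K A (p ^ N)) := fun N => by
    induction N with
    | zero => intro a b h; simpa [H20OT.powConv_one_apply] using h
    | succ N ih =>
      intro a b h
      rw [pow_succ, ← H20OT.powConv_powConv, ← H20OT.powConv_powConv] at h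
      exact hinj (ih h)
  refine ⟨CoalgebraStruct.counit (R := K) b, hpow N ?_⟩
  rw [H19Chev.UniKilled.powConv_apply_coFil hN hn, AlgHom.commutes]

end Groth.Agent.H19SemiAb
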