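import Groth.Agent.H19SemiAb.Descend
import Groth.Agent.H19SemiAb.TorusPow
import Groth.Agent.H19Chev.UnipotentIsogeny

/-!
# In characteristic p a connected commutative group with surjective p-th power map is semi-abelian
-/

set_option autoImplicit false
set_option linter.style.haveILetI false
set_option backward.isDefEq.respectTransparency false
set_option maxHeartbeats 1000000
set_option synthInstance.maxHeartbeats 400000
universe u

open CategoryTheory CategoryTheory.Limits MonoidalCategory CartesianMonoidalCategory MonObj AlgebraicGeometry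
open Groth.Agent Groth.Agent.H25AbCube Groth.Agent.H19Quot

noncomputable section

namespace Groth.Agent.H19SemiAb

attribute [local instance] Functor.grpObjObj

variable {k : Type u} [Field k]

local notation "Pts" X => 𝟙_ (Over (Spec (CommRingCat.of k))) ⟶ X

/-- The power map restricted to the kernel of a map to a proper group stays surjective. -/
theorem surjective_pow_kernel [IsAlgClosed k] {G L Q : Over (Spec (CommRingCat.of k))} [GrpObj G] [GrpObj L]
    [GrpObj Q] [IsCommMonObj G] [IsCommMonObj L] [LocallyOfFiniteType G.hom] [QuasiCompact G.hom] [Smooth L.hom]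
    [QuasiCompact L.hom] [ConnectedSpace L.left] [IsProper Q.hom] [IsCommMonObj Q] (l : L ⟶ G) [IsMonHom l] [Mono l]
    (q : G ⟶ Q) [IsMonHom q] [Surjective q.left] (hk : AlgGrp.IsKernel l q) {p : ℕ} (hp : 0 < p)
    [Surjective ((𝟙 G) ^ p : G ⟶ G).left] : Surjective ((𝟙 L) ^ p : L ⟶ L).left := by
  classical
  haveI := isMonHom_pow L p
  haveI := isMonHom_pow Q p
  haveI : IsFinite ((𝟙 Q) ^ p : Q ⟶ Q).left := H19Chev.isFinite_pow_proper Q hp
  have hfin := H19Chev.UnipotentIsogeny.finite_kerPts ((𝟙 Q) ^ p : Q ⟶ Q)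
  have hfin' : {b : Pts Q | b ^ p = 1}.Finite := by
    haveI := hfin
    refine (Set.finite_range fun b : (H19Chev.UnipotentIsogeny.postHom
      (X := 𝟙_ (Over (Spec (CommRingCat.of k)))) ((𝟙 Q) ^ p : Q ⟶ Q)).ker => (b : Pts Q)).subset fun b hb => ?_
    refine ⟨⟨b, ?_⟩, rfl⟩
    show b ≫ ((𝟙 Q) ^ p : Q ⟶ Q) = 1
    rw [H19Chev.comp_id_pow]
    exact hb
  choose y hy using fun b : Pts Q => H19Chev.exists_pt_lift q b
  have hc' : ∀ b : Pts Q, b ^ p = 1 → ∃ c : Pts L, c ≫ l = y b ^ p := fun b hb =>
    H19Grp.kernel_lift hk _ (by rw [post_pow, hy, hb])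
  choose c hc using hc'
  obtain ⟨C, gC, π, i, hπ, hi, hπi, hπf, hπs, hπp, hic⟩ :=
    AbelianCat.exists_image ((𝟙 L) ^ p : L ⟶ L) ⟨inferInstance, inferInstance⟩ ⟨inferInstance, inferInstance⟩
  haveI := hπ; haveI := hi; haveI := hπs; haveI := hic
  let τ : (Pts L) → (L ⟶ L) := fun a => 𝟙 L * (toUnit L ≫ a)
  have hττ : ∀ a b : Pts L, τ a ≫ τ b = τ (a * b) := fun a b => by
    simp only [τ, MonObj.comp_mul, Category.comp_id]
    rw [← Category.assoc _ (toUnit L), comp_toUnit, _root_.mul_assoc]
  have hτ1 : τ 1 = 𝟙 L := by simp only [τ, MonObj.comp_one, _root_.mul_one]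
  have hτiso : ∀ a : Pts L, IsIso (τ a).left := fun a => by
    haveI : IsIso (τ a) := ⟨τ a⁻¹, by rw [hττ, mul_inv_cancel, hτ1], by rw [hττ, inv_mul_cancel, hτ1]⟩
    exact inferInstanceAs (IsIso ((Over.forget _).map (τ a)))
  haveI : JacobsonSpace L.left := LocallyOfFiniteType.jacobsonSpace L.hom
  let s := hfin'.toFinset
  let U : Set L.left := ⋃ b ∈ s.attach, Set.range (i ≫ τ (c b.1 (hfin'.mem_toFinset.1 b.2))).left
  have hclosed : IsClosed U := by
    refine s.attach.finite_toSet.isClosed_biUnion fun b _ => ?_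
    haveI := hτiso (c b.1 (hfin'.mem_toFinset.1 b.2))
    haveI : IsClosedImmersion (i ≫ τ (c b.1 (hfin'.mem_toFinset.1 b.2))).left := by
      rw [Over.comp_left]; infer_instance
    exact (i ≫ τ (c b.1 (hfin'.mem_toFinset.1 b.2))).left.isClosedEmbedding.isClosed_range
  have hsub : closedPoints L.left ⊆ U := fun z hz => by
    obtain ⟨x, rfl⟩ := Stab.exists_pnt hz
    obtain ⟨g, hg⟩ := H19Chev.exists_pt_lift ((𝟙 G) ^ p : G ⟶ G) (x ≫ l)
    rw [H19Chev.comp_id_pow] at hg
    have hb : (g ≫ q) ^ p = 1 := by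
      rw [← post_pow, hg, Category.assoc, H19Grp.kernel_comp_eq_one hk, MonObj.comp_one]
    obtain ⟨w, hw⟩ := H19Grp.kernel_lift hk (g * (y (g ≫ q))⁻¹) (by
      rw [MonObj.mul_comp, GrpObj.inv_comp, hy, mul_inv_cancel])
    have hx : x = w ^ p * c (g ≫ q) hb := by
      rw [← cancel_mono l, MonObj.mul_comp, post_pow, hc, hw, ← mul_pow, inv_mul_cancel_right, hg]
    refine Set.mem_biUnion (x := (⟨g ≫ q, hfin'.mem_toFinset.2 hb⟩ : {b // b ∈ s})) (Finset.mem_attach _ _) ?_
    refine ⟨Stab.pnt (w ≫ π), ?_⟩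
    show (i ≫ τ _).left ((w ≫ π).left _) = x.left _
    rw [← Scheme.Hom.comp_apply, ← Over.comp_left, Category.assoc, ← Category.assoc π, hπi, MonObj.comp_mul,
      Category.comp_id, MonObj.comp_mul, H19Chev.comp_id_pow, ← Category.assoc _ (toUnit L) (c (g ≫ q) hb),
      comp_toUnit, ← Category.assoc w, comp_toUnit, toUnit_unique (toUnit _) (𝟙 _), Category.id_comp, ← hx]
  haveI : Smooth L.hom := ‹_›
  haveI := H19Chev.geometricallyIntegral_grp L
  haveI : IsIntegral L.left := GeometricallyIntegral.isIntegral_of_subsingleton L.hom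
  have hgen : genericPoint L.left ∈ U := by
    have h := closure_minimal hsub hclosed
    rw [closure_closedPoints] at h
    exact h trivial
  obtain ⟨b, -, hb⟩ := Set.mem_iUnion₂.1 hgen
  let a := c b.1 (hfin'.mem_toFinset.1 b.2)
  haveI := hτiso a
  haveI : Surjective (i ≫ τ a).left := ⟨fun z => by
    haveI : IsClosedImmersion (i ≫ τ a).left := by rw [Over.comp_left]; infer_instance
    exact (i ≫ τ a).left.isClosedEmbedding.isClosed_range.closure_subset_iff.2
      (Set.singleton_subset_iff.2 hb) ((genericPoint_spec L.left).symm.subset trivial)⟩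
  haveI : Surjective i.left := by
    haveI : Surjective (i.left ≫ (τ a).left) := by rw [← Over.comp_left]; infer_instance
    refine ⟨fun z => ?_⟩
    obtain ⟨w, hw⟩ := (i.left ≫ (τ a).left).surjective ((τ a).left z)
    rw [Scheme.Hom.comp_apply] at hw
    exact ⟨w, (τ a).left.homeomorph.injective hw⟩
  rw [← hπi, Over.comp_left]; infer_instance

/-- In characteristic p, a connected smooth commutative group with surjective p-th power is semi-abelian. -/
theorem isSA_of_surjective_pow_algClosed [IsAlgClosed k] (p : ℕ) [Fact p.Prime] [CharP k p]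
    (G : Over (Spec (CommRingCat.of k))) [GrpObj G] [IsCommMonObj G] [Smooth G.hom] [QuasiCompact G.hom]
    [ConnectedSpace G.left] [Surjective ((𝟙 G) ^ p : G ⟶ G).left] : IsSA G := by
  obtain ⟨L, gL, l, Q, gQ, q, hl, hlc, hLa, hLs, hLn, hnorm, hq, hqs, hqf, hqp, hk, hQp, hQs, hQn⟩ :=
    H19Chev.exists_chevalley G
  haveI := hl; haveI := hlc; haveI := hLa; haveI := hLs; haveI := hLn
  haveI := hq; haveI := hqs; haveI := hqf; haveI := hqp; haveI := hQp; haveI := hQs; haveI := hQn
  haveI : Mono l := Over.mono_of_mono_left _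
  haveI : IsCommMonObj L := AbelianCat.comm_of_mono l
  haveI : IsCommMonObj Q := H19Chev.isCommMonObj_of_quotient q
  haveI : QuasiCompact L.hom := inferInstance
  haveI := surjective_pow_kernel l q hk (Fact.out : p.Prime).pos
  exact ⟨L, gL, l, Q, gQ, q, hl, hlc, isTorus_of_surjective_pow p L, hq, hqs, hqf, hk, hQp, hQs, hQn⟩

/-- In characteristic p, a connected smooth commutative group with surjective p-th power is semi-abelian. -/
theorem isSA_of_surjective_pow (p : ℕ) [Fact p.Prime] [CharP k p]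
    (G : Over (Spec (CommRingCat.of k))) [GrpObj G] [IsCommMonObj G] [Smooth G.hom] [QuasiCompact G.hom]
    [ConnectedSpace G.left] [Surjective ((𝟙 G) ^ p : G ⟶ G).left] : IsSA G := by
  let K := AlgebraicClosure k
  let F := GeomTate.bc k K
  haveI : CharP K p := charP_of_injective_algebraMap (algebraMap k K).injective p
  haveI : Smooth (F.obj G).hom := inferInstanceAs (Smooth (pullback.snd G.hom (GeomTate.σ k K)))
  haveI : QuasiCompact (F.obj G).hom := inferInstanceAs (QuasiCompact (pullback.snd G.hom (GeomTate.σ k K)))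
  haveI : GeometricallyConnected G.hom :=
    H28NT.geometricallyConnected_of_section G.hom η[G].left (Over.w η[G])
  haveI : ConnectedSpace (F.obj G).left := inferInstanceAs (ConnectedSpace ↥(pullback G.hom (GeomTate.σ k K)))
  haveI : IsCommMonObj (F.obj G) := inferInstance
  haveI : Surjective ((𝟙 (F.obj G)) ^ p : F.obj G ⟶ F.obj G).left := by
    rw [← map_pow_bc]; exact MorphismProperty.overPullbackMap _ _ inferInstance
  exact isSA_of_bc G (isSA_of_surjective_pow_algClosed p (F.obj G))

end Groth.Agent.H19SemiAb
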