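import Groth.Agent.H19SemiAb.Basic
import Groth.Agent.H19Fin.MaxTorus
import Groth.Agent.H19Grp.CommOrder
import Groth.Agent.H19Grp.AffineQuotient
import Groth.Agent.H19Chev.IsogenyProperties

/-!
# Semi-abelian varieties descend from the algebraic closure
-/

set_option autoImplicit false
set_option linter.style.haveILetI false
set_option backward.isDefEq.respectTransparency false
set_option maxHeartbeats 1000000
set_option synthInstance.maxHeartbeats 400000
universe u

open CategoryTheory CategoryTheory.Limits MonoidalCategory CartesianMonoidalCategory MonObj AlgebraicGeometry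
open Groth.Agent Groth.Agent.H25AbCube Groth.Agent.H19Quot

noncomputable section

namespace Groth.Agent.H19SemiAb

attribute [local instance] Functor.grpObjObj

variable {k : Type u} [Field k]

/-- An affine commutative group mapping to a proper one has image killed by a positive integer. -/
theorem exists_pow_comp_eq_one {N A : Over (Spec (CommRingCat.of k))} [GrpObj N] [GrpObj A] [IsCommMonObj N]
    [IsAffine N.left] [LocallyOfFiniteType N.hom] [IsProper A.hom] (f : N ⟶ A) [IsMonHom f] :
    ∃ m : ℕ, 0 < m ∧ ((𝟙 N) ^ m : N ⟶ N) ≫ f = 1 := by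
  haveI : QuasiCompact N.hom := inferInstance
  obtain ⟨C, gC, p, c, hp, hc, hpc, hpf, hps, hpp, hcc⟩ :=
    AbelianCat.exists_image f ⟨inferInstance, inferInstance⟩ ⟨inferInstance, inferInstance⟩
  haveI := hp; haveI := hc; haveI := hpf; haveI := hps; haveI := hpp; haveI := hcc
  haveI : IsProper C.hom := by rw [← Over.w c]; infer_instance
  haveI : IsAffine C.left := H19Grp.AffineQuotient.isAffine_of_flat_surjective N C p
  haveI : IsAffineHom C.hom := isAffineHom_of_isAffine _
  haveI : IsFinite C.hom := IsFinite.iff_isProper_and_isAffineHom.2 ⟨inferInstance, inferInstance⟩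
  haveI : IsCommMonObj C := H19Chev.isCommMonObj_of_quotient p
  haveI : IsNoetherianRing (CommRingCat.of k) := inferInstanceAs (IsNoetherianRing k)
  haveI : LocallyOfFinitePresentation C.hom := inferInstance
  let pt : Spec (CommRingCat.of k) := IsLocalRing.closedPoint k
  have hr := H19Grp.CommOrder.id_pow_eq_one C (C.hom.finrank pt) fun s =>
    congrArg C.hom.finrank (Subsingleton.elim (α := PrimeSpectrum k) s pt)
  let r := C.hom.finrank pt
  haveI : Flat C.hom := inferInstance
  refine ⟨r, ?_, ?_⟩
  · have h1 := Scheme.Hom.one_le_finrank_map C.hom (η[C].left pt)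
    rw [show C.hom (η[C].left pt) = pt from Subsingleton.elim (α := PrimeSpectrum k) _ _] at h1
    exact h1
  · rw [← hpc, ← Category.assoc, H19Chev.id_pow_comp, Category.assoc, hr, MonObj.one_comp, MonObj.comp_one]

variable (G : Over (Spec (CommRingCat.of k))) [GrpObj G] [LocallyOfFiniteType G.hom] [QuasiCompact G.hom]

/-- A group whose base change to the algebraic closure is semi-abelian is commutative, smooth and connected. -/
theorem props_of_bc (h : IsSA ((GeomTate.bc k (AlgebraicClosure k)).obj G)) :
    Smooth G.hom ∧ ConnectedSpace G.left ∧ IsCommMonObj G := by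
  let K := AlgebraicClosure k
  let F := GeomTate.bc k K
  haveI := GeomTate.flat_σ k K
  haveI := GeomTate.surjective_σ k K
  haveI : LocallyOfFiniteType (F.obj G).hom :=
    inferInstanceAs (LocallyOfFiniteType (pullback.snd G.hom (GeomTate.σ k K)))
  haveI : QuasiCompact (F.obj G).hom := inferInstanceAs (QuasiCompact (pullback.snd G.hom (GeomTate.σ k K)))
  obtain ⟨hs, hc, hcm⟩ := h.props
  haveI := hcm
  haveI : Surjective (pullback.fst G.hom (GeomTate.σ k K)) :=
    MorphismProperty.pullback_fst (P := @Surjective) _ _ inferInstance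
  haveI : MorphismProperty.DescendsAlong @Smooth H18Descent.fpqc.{u} :=
    inferInstanceAs (MorphismProperty.DescendsAlong @Smooth (@Surjective ⊓ @Flat ⊓ @QuasiCompact))
  refine ⟨MorphismProperty.of_pullback_snd_of_descendsAlong (P := @Smooth) (Q := H18Descent.fpqc)
    (g := GeomTate.σ k K) ⟨⟨inferInstance, inferInstance⟩, inferInstance⟩ hs, ?_, ?_⟩
  · haveI : ConnectedSpace ↥(pullback G.hom (GeomTate.σ k K)) := hc
    exact (pullback.fst G.hom (GeomTate.σ k K)).surjective.connectedSpace
      (pullback.fst G.hom (GeomTate.σ k K)).continuous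
  · exact isCommMonObj_of_comm fun X f g => H19Chev.IsogenyProperties.comm_of_bc K G (fun {Y} a b => mul_comm (G := Y ⟶ F.obj G) a b) f g

/-- A group which becomes semi-abelian over the algebraic closure is semi-abelian. -/
theorem isSA_of_bc (h : IsSA ((GeomTate.bc k (AlgebraicClosure k)).obj G)) : IsSA G := by
  let K := AlgebraicClosure k
  let F := GeomTate.bc k K
  haveI := GeomTate.flat_σ k K
  haveI := GeomTate.surjective_σ k K
  haveI : LocallyOfFiniteType (F.obj G).hom :=
    inferInstanceAs (LocallyOfFiniteType (pullback.snd G.hom (GeomTate.σ k K)))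
  haveI : QuasiCompact (F.obj G).hom := inferInstanceAs (QuasiCompact (pullback.snd G.hom (GeomTate.σ k K)))
  obtain ⟨hs, hc, hcm⟩ := props_of_bc G h
  haveI := hs; haveI := hc; haveI := hcm
  haveI hcmK : IsCommMonObj (F.obj G) := h.props.2.2
  obtain ⟨T, gT, iT, A, gA, qA, hi, hic, hT, hqA, hqs, hqf, hkA, hAp, hAs, hAc⟩ := h
  haveI := hi; haveI := hic; haveI := hqA; haveI := hqs; haveI := hqf; haveI := hAp; haveI := hAs; haveI := hAc
  obtain ⟨N, gN, i, Q, gQ, q, hiN, hiNc, hNa, hNn, hq, hqqs, hqqf, hqqp, hk, hQp⟩ :=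
    H19Chev.exists_affine_proper_quotient G
  haveI := hiN; haveI := hiNc; haveI := hNa; haveI := hq; haveI := hqqs; haveI := hqqf; haveI := hqqp; haveI := hQp
  haveI : Mono i := Over.mono_of_mono_left _
  haveI : IsCommMonObj N := AbelianCat.comm_of_mono i
  haveI : LocallyOfFiniteType N.hom := by rw [← Over.w i]; infer_instance
  haveI : QuasiCompact N.hom := inferInstance
  haveI : IsMonHom (F.map i) := inferInstance
  haveI : IsClosedImmersion (F.map i).left := MorphismProperty.overPullbackMap _ _ inferInstance
  haveI : Mono (F.map i) := Over.mono_of_mono_left _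
  haveI : IsAffine (F.obj N).left := inferInstanceAs (IsAffine (pullback N.hom (GeomTate.σ k K)))
  haveI : LocallyOfFiniteType (F.obj N).hom :=
    inferInstanceAs (LocallyOfFiniteType (pullback.snd N.hom (GeomTate.σ k K)))
  haveI : QuasiCompact (F.obj N).hom := inferInstance
  haveI : IsCommMonObj (F.obj N) := AbelianCat.comm_of_mono (F.map i)
  haveI : Mono iT := Over.mono_of_mono_left _
  haveI : IsCommMonObj T := isCommMonObj_of_comm fun X f g => H21Rank1.isTorus_comm hT f g
  obtain ⟨hTaff, hTlft⟩ := H26OneMot.torus_affine hT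
  haveI := hTlft
  haveI : IsAffine T.left := by haveI := hTaff; exact isAffine_of_isAffineHom T.hom
  haveI : Smooth T.hom := H21Split.Corad.smooth_torus T hT
  haveI := H19Chev.SemiAb.irreducibleSpace_torus T hT
  haveI : IsProper (F.obj Q).hom := GeomTate.isProper_bc Q
  haveI : IsMonHom (F.map q) := inferInstance
  -- the torus lies in the affine subgroup
  obtain ⟨t, ht⟩ := H19Grp.kernel_lift (H19Chev.SemiAb.isKernel_bc _ i q hk) iT
    (H19Chev.eq_one_of_affine_to_proper (iT ≫ F.map q))
  haveI : IsMonHom (t ≫ F.map i) := ht ▸ hi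
  haveI : IsMonHom t := H19Chev.isMonHom_of_mono t (F.map i)
  haveI : IsClosedImmersion t.left := by
    haveI : IsClosedImmersion (t.left ≫ (F.map i).left) := by rw [← Over.comp_left, ht]; infer_instance
    exact IsClosedImmersion.of_comp t.left (F.map i).left
  haveI : Mono t := Over.mono_of_mono_left _
  obtain ⟨m, hm, hmk⟩ := exists_pow_comp_eq_one (F.map i ≫ qA)
  -- the image of the power map is the torus
  haveI := isMonHom_pow N m
  obtain ⟨N', gN', p, c, hp, hc', hpc, hpf, hps, hpp, hcc⟩ :=
    AbelianCat.exists_image ((𝟙 N) ^ m : N ⟶ N) ⟨inferInstance, inferInstance⟩ ⟨inferInstance, inferInstance⟩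
  haveI := hp; haveI := hc'; haveI := hpf; haveI := hps; haveI := hpp; haveI := hcc
  haveI : IsMonHom (F.map p) := inferInstance
  haveI : IsMonHom (F.map c) := inferInstance
  haveI : Flat (F.map p).left := MorphismProperty.overPullbackMap _ _ inferInstance
  haveI : Surjective (F.map p).left := MorphismProperty.overPullbackMap _ _ inferInstance
  haveI : LocallyOfFinitePresentation (F.map p).left := MorphismProperty.overPullbackMap _ _ inferInstance
  haveI : IsClosedImmersion (F.map c).left := MorphismProperty.overPullbackMap _ _ inferInstance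
  haveI : Mono (F.map c) := Over.mono_of_mono_left _
  have hFpc : F.map p ≫ F.map c = (𝟙 (F.obj N)) ^ m := by rw [← F.map_comp, hpc, map_pow_bc]
  obtain ⟨d, hd⟩ := H19Grp.kernel_lift hkA (((𝟙 (F.obj N)) ^ m : F.obj N ⟶ F.obj N) ≫ F.map i)
    (by rw [Category.assoc]; exact hmk)
  have hdt : d ≫ t = F.map p ≫ F.map c := by
    rw [← cancel_mono (F.map i), Category.assoc, ht, hd, hFpc]
  obtain ⟨u, hu, -⟩ := H19Grp.QuotientDesc.existsUnique_desc (F.map p) d fun X a b hab => by
    rw [← cancel_mono t, Category.assoc, Category.assoc, hdt, ← Category.assoc, hab, Category.assoc]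
  have hut : u ≫ t = F.map c := H19Chev.cancel_quotient (F.map p) (by rw [← Category.assoc, hu, hdt])
  haveI : IsMonHom (u ≫ t) := hut ▸ inferInstance
  haveI : IsMonHom u := H19Chev.isMonHom_of_mono u t
  haveI : IsClosedImmersion u.left := by
    haveI : IsClosedImmersion (u.left ≫ t.left) := by rw [← Over.comp_left, hut]; infer_instance
    exact IsClosedImmersion.of_comp u.left t.left
  haveI : LocallyOfFiniteType (F.obj N').hom := by rw [← Over.w (F.map c)]; infer_instance
  haveI : QuasiCompact (F.obj N').hom := by rw [← Over.w (F.map c)]; infer_instance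
  haveI : QuasiCompact T.hom := inferInstance
  haveI : Surjective u.left := surjective_of_pts u fun y => by
    obtain ⟨x, hx⟩ : ∃ x : 𝟙_ (Over (Spec (CommRingCat.of K))) ⟶ T, x ^ m = y :=
      H26OneMot.torus_divisible hT hm y
    refine ⟨(x ≫ t) ≫ F.map p, ?_⟩
    rw [← cancel_mono t, Category.assoc _ u t, hut, Category.assoc, hFpc, H19Chev.comp_id_pow, ← hx, post_pow]
  haveI : IsReduced T.left := H19Chev.isReduced_smooth
  haveI : IsIso u.left := isIso_of_isClosedImmersion_of_surjective u.left
  haveI : IsIso ((Over.forget _).map u) := ‹IsIso u.left›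
  haveI : IsIso u := isIso_of_reflects_iso u (Over.forget _)
  haveI : IsMonHom (asIso u).hom := ‹IsMonHom u›
  have hN'T : Red.IsTorus N' := isTorus_of_bc (H19Fin.isTorus_of_iso (asIso u) hT)
  haveI : IsClosedImmersion (c ≫ i).left := by rw [Over.comp_left]; infer_instance
  obtain ⟨Q', gQ', q', hq', hQl, hQq, hq'f, hq's, hq'p, hk'⟩ :=
    H19Quot.exists_quotientGroup (c ≫ i) (AbelianCat.normal_of_comm _)
  haveI := hq'; haveI := hQl; haveI := hQq; haveI := hq'f; haveI := hq's; haveI := hq'p
  haveI : IsMonHom (F.map q') := inferInstance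
  haveI : Surjective (F.map q').left := MorphismProperty.overPullbackMap _ _ inferInstance
  haveI : LocallyOfFiniteType (F.obj Q').hom :=
    inferInstanceAs (LocallyOfFiniteType (pullback.snd Q'.hom (GeomTate.σ k K)))
  haveI : QuasiCompact (F.obj Q').hom := inferInstanceAs (QuasiCompact (pullback.snd Q'.hom (GeomTate.σ k K)))
  have hTq' : iT ≫ F.map q' = 1 := by
    have h0 : F.map c ≫ F.map i ≫ F.map q' = 1 := by
      rw [← F.map_comp, ← F.map_comp, ← Category.assoc, H19Grp.kernel_comp_eq_one hk', H19Chev.map_one_bc]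
    rw [← ht, Category.assoc, ← cancel_epi u, MonObj.comp_one, ← Category.assoc, hut]
    exact h0
  haveI : LocallyOfFinitePresentation qA.left :=
    (AbelianCat.props_hom qA ⟨inferInstance, inferInstance⟩ ⟨inferInstance, inferInstance⟩).2.2
  obtain ⟨χ, hχ, -⟩ := H19Grp.QuotientDesc.existsUnique_desc qA (F.map q') fun X a b hab => by
    obtain ⟨z, hz⟩ := H19Grp.kernel_lift hkA (a * b⁻¹) (by
      rw [MonObj.mul_comp, GrpObj.inv_comp, hab, mul_inv_cancel])
    have h1 : (a * b⁻¹) ≫ F.map q' = 1 := by rw [← hz, Category.assoc, hTq', MonObj.comp_one]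
    rwa [MonObj.mul_comp, GrpObj.inv_comp, mul_inv_eq_one] at h1
  haveI : IsProper (F.obj Q').hom := by
    haveI : Surjective (qA.left ≫ χ.left) := by rw [← Over.comp_left, hχ]; infer_instance
    haveI : Surjective χ.left := Surjective.of_comp qA.left χ.left
    haveI : UniversallyClosed (χ.left ≫ (F.obj Q').hom) := by rw [Over.w χ]; infer_instance
    haveI : UniversallyClosed (F.obj Q').hom := UniversallyClosed.of_comp_surjective χ.left _
    haveI : IsSeparated (F.obj Q').hom := H19Grp.AffineQuotient.isSeparated_of_grp _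
    exact {}
  have hQ'p : IsProper Q'.hom := MorphismProperty.of_pullback_snd_of_descendsAlong (P := @IsProper)
    (Q := H18Descent.fpqc) (g := GeomTate.σ k K) ⟨⟨inferInstance, inferInstance⟩, inferInstance⟩ ‹_›
  exact ⟨N', gN', c ≫ i, Q', gQ', q', inferInstance, inferInstance, hN'T, hq', hq's, hq'f, hk', hQ'p,
    (H19Chev.smooth_connected_quotient q').1, (H19Chev.smooth_connected_quotient q').2⟩

end Groth.Agent.H19SemiAb
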