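import Groth.Agent.H19SemiAb.Quot
import Groth.Agent.H21Fix.SubgroupTop

/-!
# Extensions of semi-abelian varieties are semi-abelian
-/

set_option autoImplicit false
set_option linter.style.haveILetI false
set_option backward.isDefEq.respectTransparency false
set_option maxHeartbeats 4000000
set_option synthInstance.maxHeartbeats 400000
universe u

open CategoryTheory CategoryTheory.Limits MonoidalCategory CartesianMonoidalCategory MonObj AlgebraicGeometry
open Groth.Agent Groth.Agent.H25AbCube Groth.Agent.H19Quot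

noncomputable section

namespace Groth.Agent.H19SemiAb

attribute [local instance] Functor.grpObjObj

variable {k : Type u} [Field k]

local notation "Pts" X => 𝟙_ (Over (Spec (CommRingCat.of k))) ⟶ X

/-- A commutative extension of semi-abelian varieties over an algebraically closed field is semi-abelian. -/
theorem isSA_of_extension_algClosed [IsAlgClosed k] {S G Q : Over (Spec (CommRingCat.of k))} [GrpObj S] [GrpObj G]
    [GrpObj Q] [IsCommMonObj G] [LocallyOfFiniteType G.hom] [QuasiCompact G.hom] [LocallyOfFiniteType Q.hom]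
    [QuasiCompact Q.hom] (s : S ⟶ G) [IsMonHom s] [IsClosedImmersion s.left] (c : G ⟶ Q) [IsMonHom c]
    [Surjective c.left] [Flat c.left] (hk : AlgGrp.IsKernel s c) (hS : IsSA S) (hQ : IsSA Q) : IsSA G := by
  haveI : IsNoetherianRing (CommRingCat.of k) := inferInstanceAs (IsNoetherianRing k)
  haveI : LocallyOfFiniteType S.hom := by rw [← Over.w s]; infer_instance
  haveI : QuasiCompact S.hom := by rw [← Over.w s]; infer_instance
  obtain ⟨hSs, hSn, hSc⟩ := hS.props
  obtain ⟨hQs, hQn, hQc⟩ := hQ.props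
  haveI := hSs; haveI := hSn; haveI := hSc; haveI := hQs; haveI := hQn; haveI := hQc
  obtain ⟨hclft, hcqc, hclfp⟩ := AbelianCat.props_hom c ⟨inferInstance, inferInstance⟩ ⟨inferInstance, inferInstance⟩
  haveI := hclft; haveI := hcqc; haveI := hclfp
  haveI : Smooth c.left := H21Fix.smooth_of_kernel c s hk
  haveI : Smooth G.hom := by rw [← Over.w c]; infer_instance
  haveI : GeometricallyIrreducible S.hom := H19Grp.geometricallyIrreducible_of_connectedSpace_group S
  haveI : ConnectedSpace G.left := H21Fix.connectedSpace_of_fibres c.left.isOpenMap c.left.surjective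
    fun y => H21Fix.isPreconnected_fibre c s hk y
  obtain ⟨L, gL, l, A', gA', q', hl, hlc, hLa, hLs, hLn, hnorm, hq', hq's, hq'f, hq'p, hkl, hA'p, hA's, hA'n⟩ :=
    H19Chev.exists_chevalley G
  haveI := hl; haveI := hlc; haveI := hLa; haveI := hLs; haveI := hLn
  haveI := hq'; haveI := hq's; haveI := hq'f; haveI := hq'p; haveI := hA'p; haveI := hA's; haveI := hA'n
  haveI : Mono l := Over.mono_of_mono_left _
  haveI : Mono s := Over.mono_of_mono_left _
  haveI : IsCommMonObj L := AbelianCat.comm_of_mono l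
  haveI : QuasiCompact L.hom := inferInstance
  obtain ⟨T, gT, iT, A, gA, qA, hi, hic, hT, hqA, hqAs, hqAf, hkA, hAp, hAs, hAc⟩ := hS
  haveI := hi; haveI := hic; haveI := hqA; haveI := hqAs; haveI := hqAf; haveI := hAp; haveI := hAs; haveI := hAc
  obtain ⟨T', gT', iT', B, gB, qB, hi', hic', hT', hqB, hqBs, hqBf, hkB, hBp, hBs, hBc⟩ := hQ
  haveI := hi'; haveI := hic'; haveI := hqB; haveI := hqBs; haveI := hqBf; haveI := hBp; haveI := hBs; haveI := hBc
  haveI : Mono iT := Over.mono_of_mono_left _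
  haveI : Mono iT' := Over.mono_of_mono_left _
  obtain ⟨hTa, hTs, hTn, hTc⟩ := torus_props T hT
  obtain ⟨hT'a, hT's, hT'n, hT'c⟩ := torus_props T' hT'
  haveI := hTa; haveI := hTs; haveI := hTn; haveI := hTc
  haveI := hT'a; haveI := hT's; haveI := hT'n; haveI := hT'c
  haveI : QuasiCompact T.hom := inferInstance
  haveI : QuasiCompact T'.hom := inferInstance
  -- the torus of the subgroup lies in the affine part
  obtain ⟨t, ht⟩ := H19Grp.kernel_lift hkl (iT ≫ s) (H19Chev.eq_one_of_affine_to_proper ((iT ≫ s) ≫ q'))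
  haveI : IsMonHom (t ≫ l) := ht ▸ (inferInstance : IsMonHom (iT ≫ s))
  haveI : IsMonHom t := H19Chev.isMonHom_of_mono t l
  haveI : IsClosedImmersion t.left := by
    haveI : IsClosedImmersion (t.left ≫ l.left) := by rw [← Over.comp_left, ht, Over.comp_left]; infer_instance
    exact IsClosedImmersion.of_comp t.left l.left
  -- the affine part maps onto the torus of the quotient
  obtain ⟨C, gC, p, i, hp, hiC, hpi, hpf, hps, hpp, hiCc⟩ :=
    AbelianCat.exists_image (l ≫ c) ⟨inferInstance, inferInstance⟩ ⟨inferInstance, inferInstance⟩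
  haveI := hp; haveI := hiC; haveI := hpf; haveI := hps; haveI := hpp; haveI := hiCc
  haveI : Mono i := Over.mono_of_mono_left _
  haveI : LocallyOfFiniteType C.hom := by rw [← Over.w i]; infer_instance
  haveI : QuasiCompact C.hom := by rw [← Over.w i]; infer_instance
  haveI : IsAffine C.left := H19Grp.AffineQuotient.isAffine_of_flat_surjective L C p
  obtain ⟨hCs, hCn⟩ := H19Chev.smooth_connected_quotient p
  haveI := hCs; haveI := hCn
  obtain ⟨c', hc'⟩ := H19Grp.kernel_lift hkB i (H19Chev.eq_one_of_affine_to_proper (i ≫ qB))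
  obtain ⟨D, gD, d, hd, hDc, hDft, hdf, hds, hdp, hkd⟩ := AbelianCat.exists_cokernel i ⟨inferInstance, inferInstance⟩
  haveI := hd; haveI := hdf; haveI := hds; haveI := hdp; haveI := hDft.lft; haveI := hDft.qc
  have hlcd : l ≫ c ≫ d = 1 := by
    rw [← Category.assoc, ← hpi, Category.assoc, H19Grp.kernel_comp_eq_one hkd, MonObj.comp_one]
  obtain ⟨χ, hχ, -⟩ := H19Grp.QuotientDesc.existsUnique_desc q' (c ≫ d) fun X a b hab => by
    obtain ⟨z, hz⟩ := H19Grp.kernel_lift hkl (a * b⁻¹) (by
      rw [MonObj.mul_comp, GrpObj.inv_comp, hab, mul_inv_cancel])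
    have h1 : (a * b⁻¹) ≫ c ≫ d = 1 := by rw [← hz, Category.assoc, hlcd, MonObj.comp_one]
    rwa [MonObj.mul_comp, GrpObj.inv_comp, mul_inv_eq_one] at h1
  haveI : IsProper D.hom := by
    haveI : Surjective (q'.left ≫ χ.left) := by rw [← Over.comp_left, hχ, Over.comp_left]; infer_instance
    haveI : Surjective χ.left := Surjective.of_comp q'.left χ.left
    haveI : UniversallyClosed (χ.left ≫ D.hom) := by rw [Over.w χ]; infer_instance
    haveI : UniversallyClosed D.hom := UniversallyClosed.of_comp_surjective χ.left _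
    haveI : IsSeparated D.hom := H19Grp.AffineQuotient.isSeparated_of_grp _
    exact {}
  obtain ⟨t', ht'⟩ := H19Grp.kernel_lift hkd iT' (H19Chev.eq_one_of_affine_to_proper (iT' ≫ d))
  haveI : IsIso c' := ⟨t', by rw [← cancel_mono i, Category.assoc, ht', hc', Category.id_comp],
    by rw [← cancel_mono iT', Category.assoc, hc', ht', Category.id_comp]⟩
  haveI : IsIso c'.left := inferInstanceAs (IsIso ((Over.forget _).map c'))
  haveI : IsMonHom (c' ≫ iT') := hc' ▸ hiC
  haveI : IsMonHom c' := H19Chev.isMonHom_of_mono c' iT'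
  let lam : L ⟶ T' := p ≫ c'
  haveI : IsMonHom lam := inferInstance
  have hlam : lam ≫ iT' = l ≫ c := by rw [Category.assoc, hc', hpi]
  haveI : Surjective lam.left := by rw [Over.comp_left]; infer_instance
  -- the quotient of the affine part by the torus
  obtain ⟨L₁, gL₁, c₁, hc₁, hL₁c, hL₁ft, hc₁f, hc₁s, hc₁p, hk₁⟩ :=
    AbelianCat.exists_cokernel t ⟨inferInstance, inferInstance⟩
  haveI := hc₁; haveI := hL₁c; haveI := hc₁f; haveI := hc₁s; haveI := hc₁p; haveI := hL₁ft.lft; haveI := hL₁ft.qc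
  haveI : IsAffine L₁.left := H19Grp.AffineQuotient.isAffine_of_flat_surjective L L₁ c₁
  obtain ⟨hL₁s, hL₁n⟩ := H19Chev.smooth_connected_quotient c₁
  haveI := hL₁s; haveI := hL₁n
  have htlam : t ≫ lam = 1 := by
    rw [← cancel_mono iT', Category.assoc, hlam, ← Category.assoc, ht, Category.assoc,
      H19Grp.kernel_comp_eq_one hk, MonObj.comp_one, MonObj.one_comp]
  obtain ⟨lam₁, hlam₁m, hlam₁⟩ := AbelianCat.desc_hom c₁ (hasFpqcSection_of_lfp c₁) hk₁ lam htlam
  haveI := hlam₁m
  haveI : Surjective lam₁.left := by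
    haveI : Surjective (c₁.left ≫ lam₁.left) := by rw [← Over.comp_left, hlam₁]; infer_instance
    exact Surjective.of_comp c₁.left lam₁.left
  -- the kernel of the induced map is finite
  haveI : IsSeparated T'.hom := H19Grp.AffineQuotient.isSeparated_of_grp T'
  obtain ⟨K₀, gK₀, κ, hκ, hκc, hkκ⟩ := H19Grp.AffineQuotient.exists_kernel lam
  haveI := hκ; haveI := hκc
  haveI : IsAffine K₀.left := isAffine_of_isAffineHom κ.left
  haveI : LocallyOfFiniteType K₀.hom := by rw [← Over.w κ]; infer_instance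
  haveI : QuasiCompact K₀.hom := by rw [← Over.w κ]; infer_instance
  obtain ⟨σ, hσ⟩ := H19Grp.kernel_lift hk (κ ≫ l) (by
    rw [Category.assoc, ← hlam, ← Category.assoc, H19Grp.kernel_comp_eq_one hkκ, MonObj.one_comp])
  haveI : IsMonHom (σ ≫ s) := hσ ▸ (inferInstance : IsMonHom (κ ≫ l))
  haveI : IsMonHom σ := H19Chev.isMonHom_of_mono σ s
  obtain ⟨C₀, gC₀, p₀, i₀, hp₀, hi₀, hpi₀, hp₀f, hp₀s, hp₀p, hi₀c⟩ :=
    AbelianCat.exists_image (σ ≫ qA) ⟨inferInstance, inferInstance⟩ ⟨inferInstance, inferInstance⟩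
  haveI := hp₀; haveI := hi₀; haveI := hp₀f; haveI := hp₀s; haveI := hp₀p; haveI := hi₀c
  haveI : IsProper C₀.hom := by rw [← Over.w i₀]; infer_instance
  haveI : IsAffine C₀.left := H19Grp.AffineQuotient.isAffine_of_flat_surjective K₀ C₀ p₀
  haveI : IsAffineHom C₀.hom := isAffineHom_of_isAffine _
  haveI : IsFinite C₀.hom := IsFinite.iff_isProper_and_isAffineHom.2 ⟨inferInstance, inferInstance⟩
  haveI : Finite (Pts C₀) := H19Chev.TorusCriterion.finite_points (𝟙 _) C₀
  have hfin : {x : Pts L₁ | x ≫ lam₁ = 1}.Finite := by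
    have hz : ∀ x : {x : Pts L₁ | x ≫ lam₁ = 1}, ∃ (y : Pts L) (z : Pts S) (b : Pts C₀),
        y ≫ c₁ = x.1 ∧ y ≫ l = z ≫ s ∧ b ≫ i₀ = z ≫ qA := fun ⟨x, hx⟩ => by
      obtain ⟨y, rfl⟩ := H19Chev.exists_pt_lift c₁ x
      have hy : y ≫ lam = 1 := by rw [← hlam₁, ← Category.assoc]; exact hx
      obtain ⟨w, hw⟩ := H19Grp.kernel_lift hkκ y hy
      exact ⟨y, w ≫ σ, w ≫ p₀, rfl, by rw [Category.assoc, hσ, ← Category.assoc, hw],
        by rw [Category.assoc, hpi₀, Category.assoc]⟩
    choose y z b hy hyz hb using hz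
    haveI : Finite ↑{x : Pts L₁ | x ≫ lam₁ = 1} := Finite.of_injective b fun x₁ x₂ h12 => by
      obtain ⟨τ, hτ⟩ := H19Grp.kernel_lift hkA (z x₁ * (z x₂)⁻¹) (by
        rw [MonObj.mul_comp, GrpObj.inv_comp, ← hb, ← hb, h12, mul_inv_cancel])
      have h1 : τ ≫ t = y x₁ * (y x₂)⁻¹ := by
        rw [← cancel_mono l, Category.assoc, ht, ← Category.assoc, hτ, MonObj.mul_comp, GrpObj.inv_comp,
          MonObj.mul_comp, GrpObj.inv_comp, hyz, hyz]
      have h2 : (y x₁ * (y x₂)⁻¹) ≫ c₁ = 1 := by
        rw [← h1, Category.assoc, H19Grp.kernel_comp_eq_one hk₁, MonObj.comp_one]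
      rw [MonObj.mul_comp, GrpObj.inv_comp, hy, hy, mul_inv_eq_one] at h2
      exact Subtype.ext h2
    exact Set.toFinite _
  haveI : IsFinite lam₁.left := H19Chev.isFinite_of_finite_ker lam₁ hfin
  have hTL₁ : Red.IsTorus L₁ := by
    refine (H19Chev.TorusCriterion.isTorus_iff_of_isogeny L₁ T' lam₁ ⟨inferInstance, fun N i' hi' => ?_⟩).2 hT'
    haveI : IsFinite (toUnit N).left :=
      MorphismProperty.of_isPullback (P := @IsFinite) (Over.forget _ |>.map_isPullback hi') ‹IsFinite lam₁.left›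
    rwa [show (toUnit N).left = N.hom from (Category.comp_id _).symm.trans (Over.w (toUnit N))] at this
  exact ⟨L, gL, l, A', gA', q', hl, hlc, isTorus_of_extension L T L₁ t c₁ hk₁ hT hTL₁, hq', hq's, hq'f, hkl, hA'p, hA's,
    hA'n⟩

/-- A commutative extension of semi-abelian varieties is semi-abelian. -/
theorem isSA_of_extension {S G Q : Over (Spec (CommRingCat.of k))} [GrpObj S] [GrpObj G]
    [GrpObj Q] [IsCommMonObj G] [LocallyOfFiniteType G.hom] [QuasiCompact G.hom] [LocallyOfFiniteType Q.hom]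
    [QuasiCompact Q.hom] (s : S ⟶ G) [IsMonHom s] [IsClosedImmersion s.left] (c : G ⟶ Q) [IsMonHom c]
    [Surjective c.left] [Flat c.left] (hk : AlgGrp.IsKernel s c) (hS : IsSA S) (hQ : IsSA Q) : IsSA G := by
  let K := AlgebraicClosure k
  let F := GeomTate.bc k K
  haveI : LocallyOfFiniteType (F.obj G).hom :=
    inferInstanceAs (LocallyOfFiniteType (pullback.snd G.hom (GeomTate.σ k K)))
  haveI : QuasiCompact (F.obj G).hom := inferInstanceAs (QuasiCompact (pullback.snd G.hom (GeomTate.σ k K)))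
  haveI : LocallyOfFiniteType (F.obj Q).hom :=
    inferInstanceAs (LocallyOfFiniteType (pullback.snd Q.hom (GeomTate.σ k K)))
  haveI : QuasiCompact (F.obj Q).hom := inferInstanceAs (QuasiCompact (pullback.snd Q.hom (GeomTate.σ k K)))
  haveI : IsClosedImmersion (F.map s).left := MorphismProperty.overPullbackMap _ _ inferInstance
  haveI : Surjective (F.map c).left := MorphismProperty.overPullbackMap _ _ inferInstance
  haveI : Flat (F.map c).left := MorphismProperty.overPullbackMap _ _ inferInstance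
  haveI : IsCommMonObj (F.obj G) := inferInstance
  exact isSA_of_bc G (isSA_of_extension_algClosed (F.map s) (F.map c)
    (H19Chev.SemiAb.isKernel_bc _ s c hk) hS.bc hQ.bc)

end Groth.Agent.H19SemiAb
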