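import Groth.Agent.H19SemiAb.Image
import Groth.Agent.H19Grp.HomFlat

/-!
# Positive multiplications on semi-abelian varieties are finite and flat
-/

set_option autoImplicit false
set_option linter.style.haveILetI false
set_option backward.isDefEq.respectTransparency false
set_option maxHeartbeats 1000000
set_option synthInstance.maxHeartbeats 400000
universe u

open CategoryTheory CategoryTheory.Limits MonoidalCategory CartesianMonoidalCategory MonObj AlgebraicGeometry
open Groth.Agent Groth.Agent.H25AbCube Groth.Agent.H19Quot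

noncomputable section

namespace Groth.Agent.H19SemiAb

attribute [local instance] Functor.grpObjObj

variable {k : Type u} [Field k]

local notation "Pts" X => 𝟙_ (Over (Spec (CommRingCat.of k))) ⟶ X

/-- The n-torsion points of a semi-abelian variety over an algebraically closed field are finite. -/
theorem IsSA.finite_torsion [IsAlgClosed k] {G : Over (Spec (CommRingCat.of k))} [GrpObj G] (h : IsSA G)
    [LocallyOfFiniteType G.hom] [QuasiCompact G.hom] {n : ℕ} (hn : 0 < n) :
    {x : Pts G | x ^ n = 1}.Finite := by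
  haveI := h.props.2.2
  obtain ⟨T, gT, i, A, gA, q, hi, hic, hT, hq, hqs, hqf, hk, hAp, hAs, hAc⟩ := h
  haveI := hi; haveI := hq; haveI := hqs; haveI := hqf; haveI := hAp; haveI := hAs; haveI := hAc
  haveI : GeometricallyIntegral A.hom := H19Chev.geometricallyIntegral_grp A
  haveI : IsCommMonObj A := isCommMonObj_of_av
  haveI := hic
  haveI : Mono i := Over.mono_of_mono_left _
  haveI : IsCommMonObj T := AbelianCat.comm_of_mono i
  haveI := isMonHom_pow A n
  haveI : IsFinite ((𝟙 A) ^ n : A ⟶ A).left := H19Chev.isFinite_pow_proper A hn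
  have hAfin : {b : Pts A | b ^ n = 1}.Finite := by
    haveI := H19Chev.UnipotentIsogeny.finite_kerPts ((𝟙 A) ^ n : A ⟶ A)
    refine (Set.finite_range fun b : (H19Chev.UnipotentIsogeny.postHom
      (X := 𝟙_ (Over (Spec (CommRingCat.of k)))) ((𝟙 A) ^ n : A ⟶ A)).ker => (b : Pts A)).subset fun b hb => ?_
    refine ⟨⟨b, ?_⟩, rfl⟩
    show b ≫ ((𝟙 A) ^ n : A ⟶ A) = 1
    rw [H19Chev.comp_id_pow]
    exact hb
  have hTfin : {t : Pts T | t ^ n = 1}.Finite := H26OneMot.torus_finite_torsion hT hn
  refine Set.Finite.of_finite_fibers (fun x => x ≫ q) (hAfin.subset ?_) fun b _ => ?_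
  · rintro _ ⟨x, hx, rfl⟩
    show (x ≫ q) ^ n = 1
    rw [← post_pow, hx, MonObj.one_comp]
  by_cases hne : ({x : Pts G | x ^ n = 1} ∩ (fun x => x ≫ q) ⁻¹' {b}).Nonempty
  · obtain ⟨x₀, hx₀, hb₀⟩ := hne
    refine (hTfin.image fun t => (t ≫ i) * x₀).subset fun x ⟨hx, hb⟩ => ?_
    obtain ⟨t, ht⟩ := H19Grp.kernel_lift hk (x * x₀⁻¹) (by
      rw [MonObj.mul_comp, GrpObj.inv_comp, show x ≫ q = b from hb, show x₀ ≫ q = b from hb₀, mul_inv_cancel])
    refine ⟨t, ?_, ?_⟩
    · show t ^ n = 1
      rw [← cancel_mono i, post_pow, ht, MonObj.one_comp, mul_pow, inv_pow, show x ^ n = 1 from hx,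
        show x₀ ^ n = 1 from hx₀, inv_one, _root_.mul_one]
    · show (t ≫ i) * x₀ = x
      rw [ht, inv_mul_cancel_right]
  · exact (Set.not_nonempty_iff_eq_empty.1 hne) ▸ Set.finite_empty

/-- Multiplication by a positive integer on a semi-abelian variety is finite and flat. -/
theorem IsSA.isFinite_pow {G : Over (Spec (CommRingCat.of k))} [GrpObj G] (h : IsSA G)
    [LocallyOfFiniteType G.hom] [QuasiCompact G.hom] {n : ℕ} (hn : 0 < n) :
    IsFinite ((𝟙 G) ^ n : G ⟶ G).left ∧ Flat ((𝟙 G) ^ n : G ⟶ G).left := by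
  obtain ⟨hs, -, hG⟩ := h.props
  haveI := hs; haveI := hG
  haveI := isMonHom_pow G n
  let K := AlgebraicClosure k
  let F := GeomTate.bc k K
  haveI := GeomTate.flat_σ k K
  haveI := GeomTate.surjective_σ k K
  haveI : LocallyOfFiniteType (F.obj G).hom :=
    inferInstanceAs (LocallyOfFiniteType (pullback.snd G.hom (GeomTate.σ k K)))
  haveI : QuasiCompact (F.obj G).hom := inferInstanceAs (QuasiCompact (pullback.snd G.hom (GeomTate.σ k K)))
  haveI : IsMonHom ((𝟙 (F.obj G)) ^ n : F.obj G ⟶ F.obj G) := by rw [← map_pow_bc]; infer_instance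
  have hK : IsFinite (F.map ((𝟙 G) ^ n : G ⟶ G)).left := by
    rw [map_pow_bc]
    refine H19Chev.isFinite_of_finite_ker _ ((h.bc (K := K)).finite_torsion hn |>.subset fun x hx => ?_)
    show x ^ n = 1
    rw [← H19Chev.comp_id_pow]
    exact hx
  haveI hfin : IsFinite ((𝟙 G) ^ n : G ⟶ G).left := by
    have hσ : H18Descent.fpqc.{u} (pullback.fst G.hom (GeomTate.σ k K)) := by
      refine ⟨⟨?_, ?_⟩, ?_⟩
      · exact MorphismProperty.pullback_fst (P := @Surjective) _ _ inferInstance
      · exact MorphismProperty.pullback_fst (P := @Flat) _ _ inferInstance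
      · exact MorphismProperty.pullback_fst (P := @QuasiCompact) _ _ (inferInstanceAs (QuasiCompact (Spec.map _)))
    exact MorphismProperty.of_isPullback_of_descendsAlong (P := @IsFinite) (Q := H18Descent.fpqc.{u})
      (H19Chev.isPullback_bc K ((𝟙 G) ^ n : G ⟶ G)) hσ hK
  haveI := h.surjective_pow hn
  exact ⟨hfin, H19Grp.flat_of_surjective _⟩

end Groth.Agent.H19SemiAb
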