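import Groth.Agent.H19SemiAb.Crit
import Groth.Agent.H19Grp.GroupCI

/-!
# In characteristic p the image of a suitable multiplication is semi-abelian
-/

set_option autoImplicit false
set_option linter.style.haveILetI false
set_option backward.isDefEq.respectTransparency false
set_option maxHeartbeats 1000000
set_option synthInstance.maxHeartbeats 400000
universe u

open CategoryTheory CategoryTheory.Limits MonoidalCategory CartesianMonoidalCategory MonObj AlgebraicGeometry
open Groth.Agent Groth.Agent.H25AbCube Groth.Agent.H19Quot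

noncomputable section

namespace Groth.Agent.H19SemiAb

attribute [local instance] Functor.grpObjObj

variable {k : Type u} [Field k]

local notation "Pts" X => 𝟙_ (Over (Spec (CommRingCat.of k))) ⟶ X

/-- A finite commutative group is killed by a positive integer. -/
theorem exists_pow_eq_one_of_finite (C : Over (Spec (CommRingCat.of k))) [GrpObj C] [IsCommMonObj C] [IsFinite C.hom] :
    ∃ r : ℕ, 0 < r ∧ ((𝟙 C) ^ r : C ⟶ C) = 1 := by
  haveI : IsNoetherianRing (CommRingCat.of k) := inferInstanceAs (IsNoetherianRing k)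
  haveI : LocallyOfFinitePresentation C.hom := inferInstance
  haveI : Flat C.hom := inferInstance
  let pt : Spec (CommRingCat.of k) := IsLocalRing.closedPoint k
  refine ⟨C.hom.finrank pt, ?_, H19Grp.CommOrder.id_pow_eq_one C (C.hom.finrank pt) fun s =>
    congrArg C.hom.finrank (Subsingleton.elim (α := PrimeSpectrum k) s pt)⟩
  have h1 := Scheme.Hom.one_le_finrank_map C.hom (η[C].left pt)
  rw [show C.hom (η[C].left pt) = pt from Subsingleton.elim (α := PrimeSpectrum k) _ _] at h1
  exact h1

/-- A quotient all of whose rational points come from the kernel is finite. -/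
theorem isFinite_of_pts [IsAlgClosed k] (Q : Over (Spec (CommRingCat.of k))) [GrpObj Q] [LocallyOfFiniteType Q.hom]
    [QuasiCompact Q.hom] (h : (Set.univ : Set (Pts Q)).Finite) : IsFinite Q.hom := by
  haveI : LocallyOfFiniteType (𝟙_ (Over (Spec (CommRingCat.of k)))).hom := inferInstanceAs (LocallyOfFiniteType (𝟙 _))
  haveI : QuasiCompact (𝟙_ (Over (Spec (CommRingCat.of k)))).hom := inferInstanceAs (QuasiCompact (𝟙 _))
  have hf : IsFinite (toUnit Q).left :=
    H19Chev.isFinite_of_finite_ker (toUnit Q) (h.subset (Set.subset_univ _))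
  rw [show (toUnit Q).left = Q.hom from (Category.comp_id _).symm.trans (Over.w (toUnit Q))] at hf
  exact hf

/-- Some multiplication factors through the reduced subgroup. -/
theorem exists_pow_factor_reduced [IsAlgClosed k] (G : Over (Spec (CommRingCat.of k))) [GrpObj G] [IsCommMonObj G]
    [LocallyOfFiniteType G.hom] [QuasiCompact G.hom] :
    ∃ (m : ℕ) (R : Over (Spec (CommRingCat.of k))) (_ : GrpObj R) (rr : R ⟶ G) (d : G ⟶ R),
      0 < m ∧ IsMonHom rr ∧ IsClosedImmersion rr.left ∧ IsReduced R.left ∧ Surjective rr.left ∧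
        d ≫ rr = (𝟙 G) ^ m := by
  obtain ⟨gR, hrr⟩ := H19Grp.GroupCI.exists_grpObj_reduced G
  let R : Over (Spec (CommRingCat.of k)) := Over.mk (G.left.nilradical.subschemeι ≫ G.hom)
  let rr : R ⟶ G := Over.homMk G.left.nilradical.subschemeι rfl
  haveI : IsMonHom rr := hrr
  haveI : IsClosedImmersion rr.left := inferInstanceAs (IsClosedImmersion G.left.nilradical.subschemeι)
  haveI : IsReduced R.left := inferInstanceAs (IsReduced G.left.nilradical.subscheme)
  haveI : Surjective rr.left := ⟨fun x => by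
    have : Set.range G.left.nilradical.subschemeι = Set.univ := by
      rw [Scheme.IdealSheafData.range_subschemeι, Scheme.support_nilradical]
      rfl
    exact this.ge trivial⟩
  haveI : LocallyOfFiniteType R.hom := by rw [← Over.w rr]; infer_instance
  obtain ⟨Q, gQ, q, hq, hQc, hQft, hqf, hqs, hqp, hk⟩ := AbelianCat.exists_cokernel rr ⟨inferInstance, inferInstance⟩
  haveI := hq; haveI := hQc; haveI := hqs; haveI := hQft.lft; haveI := hQft.qc
  haveI : IsFinite Q.hom := isFinite_of_pts Q ((Set.finite_singleton (1 : Pts Q)).subset fun y _ => by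
    obtain ⟨x, rfl⟩ := H19Chev.exists_pt_lift q y
    obtain ⟨r, rfl⟩ := H19Chev.exists_pt_lift rr x
    show (r ≫ rr) ≫ q = 1
    rw [Category.assoc, H19Grp.kernel_comp_eq_one hk, MonObj.comp_one])
  obtain ⟨m, hm, hmk⟩ := exists_pow_eq_one_of_finite Q
  obtain ⟨d, hd⟩ := H19Grp.kernel_lift hk ((𝟙 G) ^ m : G ⟶ G) (by
    rw [H19Chev.id_pow_comp, hmk, MonObj.comp_one])
  exact ⟨m, R, gR, rr, d, hm, inferInstance, inferInstance, inferInstance, inferInstance, hd⟩

/-- The images of the multiplications stabilise. -/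
theorem exists_stable (G : Over (Spec (CommRingCat.of k))) [GrpObj G] [IsCommMonObj G] [LocallyOfFiniteType G.hom]
    [QuasiCompact G.hom] :
    ∃ n : ℕ, 0 < n ∧ ∀ j : ℕ, 0 < j →
      Set.range ((𝟙 G) ^ n : G ⟶ G).left = Set.range ((𝟙 G) ^ (n * j) : G ⟶ G).left := by
  haveI : IsNoetherianRing (CommRingCat.of k) := inferInstanceAs (IsNoetherianRing k)
  haveI : IsLocallyNoetherian G.left := LocallyOfFiniteType.isLocallyNoetherian G.hom
  haveI : CompactSpace G.left := QuasiCompact.compactSpace_of_compactSpace G.hom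
  haveI : IsNoetherian G.left := {}
  have hcl : ∀ n : ℕ, IsClosed (Set.range ((𝟙 G) ^ n : G ⟶ G).left) := fun n => by
    haveI := isMonHom_pow G n
    obtain ⟨C, gC, p, i, hp, hi, hpi, hpf, hps, hpp, hic⟩ :=
      AbelianCat.exists_image ((𝟙 G) ^ n : G ⟶ G) ⟨inferInstance, inferInstance⟩ ⟨inferInstance, inferInstance⟩
    haveI := hps; haveI := hic
    rw [← hpi, Over.comp_left, Scheme.Hom.comp_base, TopCat.coe_comp, Set.range_comp, p.left.surjective.range_eq,
      Set.image_univ]
    exact i.left.isClosedEmbedding.isClosed_range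
  obtain ⟨Z, ⟨n, hn, rfl⟩, hmin⟩ := (wellFounded_lt : WellFounded
      ((· < ·) : TopologicalSpace.Closeds G.left → TopologicalSpace.Closeds G.left → Prop)).has_min
    {Z | ∃ n : ℕ, 0 < n ∧ Z = ⟨_, hcl n⟩} ⟨⟨_, hcl 1⟩, 1, Nat.one_pos, rfl⟩
  refine ⟨n, hn, fun j hj => ?_⟩
  have hle : (⟨_, hcl (n * j)⟩ : TopologicalSpace.Closeds G.left) ≤ ⟨_, hcl n⟩ := by
    rintro _ ⟨x, rfl⟩
    refine ⟨((𝟙 G) ^ j : G ⟶ G).left x, ?_⟩
    rw [← Scheme.Hom.comp_apply, ← Over.comp_left, H19Chev.comp_id_pow, ← pow_mul, mul_comm j n]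
  exact (congrArg SetLike.coe (eq_of_le_of_not_lt hle (hmin _ ⟨n * j, Nat.mul_pos hn hj, rfl⟩))).symm

/-- A reduced group over an algebraically closed field with divisible points is connected. -/
theorem connectedSpace_of_divisible [IsAlgClosed k] (S : Over (Spec (CommRingCat.of k))) [GrpObj S] [IsCommMonObj S]
    [LocallyOfFiniteType S.hom] [QuasiCompact S.hom]
    (h : ∀ j : ℕ, 0 < j → ∀ x : Pts S, ∃ y : Pts S, y ^ j = x) : ConnectedSpace S.left := by
  classical
  obtain ⟨L, gL, l, hl, hlc, hlo, hLc, hLl, hLq, h1⟩ := H19Chev.exists_open_idComp S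
  haveI := hl; haveI := hlc; haveI := hlo; haveI := hLc; haveI := hLl
  haveI : CompactSpace S.left := QuasiCompact.compactSpace_of_compactSpace S.hom
  haveI : JacobsonSpace S.left := LocallyOfFiniteType.jacobsonSpace S.hom
  obtain ⟨t, ht⟩ := H19Chev.finite_classes l h1
  let H := (post (X := 𝟙_ (Over (Spec (CommRingCat.of k)))) l).range
  haveI : H.Normal := ⟨fun a ha g => by rwa [mul_comm g, mul_inv_cancel_right]⟩
  haveI : Finite ((Pts S) ⧸ H) := Finite.of_surjective (fun g : t => (QuotientGroup.mk g.1 : (Pts S) ⧸ H))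
    fun z => by
      obtain ⟨x, rfl⟩ := QuotientGroup.mk_surjective z
      obtain ⟨g, hg, a, ha⟩ := ht x
      refine ⟨⟨g, hg⟩, QuotientGroup.eq.2 ⟨a, ?_⟩⟩
      show a ≫ l = g⁻¹ * x
      rw [ha, mul_comm]
  have hall : ∀ x : Pts S, x ∈ H := fun x => by
    obtain ⟨y, rfl⟩ := h (Nat.card ((Pts S) ⧸ H)) Nat.card_pos x
    rw [← QuotientGroup.eq_one_iff, QuotientGroup.mk_pow]
    exact pow_card_eq_one'
  have hsub : closedPoints S.left ⊆ Set.range l.left := fun z hz => by
    obtain ⟨x, rfl⟩ := Stab.exists_pnt hz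
    obtain ⟨a, rfl⟩ := hall x
    exact ⟨Stab.pnt a, rfl⟩
  haveI : Surjective l.left := ⟨fun y => by
    have := closure_minimal hsub l.left.isClosedEmbedding.isClosed_range
    rw [closure_closedPoints] at this
    exact this trivial⟩
  exact l.left.surjective.connectedSpace l.left.continuous

/-- Stable ranges stay stable after base change. -/
theorem range_map_subset {K : Type u} [Field K] [Algebra k K] {G : Over (Spec (CommRingCat.of k))} (f g : G ⟶ G)
    (h : Set.range f.left ⊆ Set.range g.left) :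
    Set.range ((GeomTate.bc k K).map f).left ⊆ Set.range ((GeomTate.bc k K).map g).left := by
  rintro _ ⟨z, rfl⟩
  obtain ⟨x, hx⟩ : pullback.fst G.hom (GeomTate.σ k K) (((GeomTate.bc k K).map f).left z) ∈ Set.range g.left := by
    show (((GeomTate.bc k K).map f).left ≫ pullback.fst G.hom (GeomTate.σ k K)) z ∈ _
    rw [(H19Chev.isPullback_bc K f).w, Scheme.Hom.comp_apply]
    exact h ⟨_, rfl⟩
  obtain ⟨w, hw, -⟩ := Scheme.exists_preimage_of_isPullback (H19Chev.isPullback_bc K g) _ x hx.symm
  exact ⟨w, hw⟩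

/-- In characteristic p the image of some multiplication is semi-abelian. -/
theorem exists_pow_image_isSA (p : ℕ) [Fact p.Prime] [CharP k p] (G : Over (Spec (CommRingCat.of k))) [GrpObj G]
    [IsCommMonObj G] [LocallyOfFiniteType G.hom] [QuasiCompact G.hom] :
    ∃ (n : ℕ) (S : Over (Spec (CommRingCat.of k))) (_ : GrpObj S) (s : S ⟶ G) (π : G ⟶ S), 0 < n ∧ IsMonHom s ∧
      IsClosedImmersion s.left ∧ IsMonHom π ∧ Flat π.left ∧ Surjective π.left ∧
      LocallyOfFinitePresentation π.left ∧ π ≫ s = (𝟙 G) ^ n ∧ IsSA S := by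
  let K := AlgebraicClosure k
  let F := GeomTate.bc k K
  haveI := GeomTate.flat_σ k K
  haveI := GeomTate.surjective_σ k K
  haveI : LocallyOfFiniteType (F.obj G).hom :=
    inferInstanceAs (LocallyOfFiniteType (pullback.snd G.hom (GeomTate.σ k K)))
  haveI : QuasiCompact (F.obj G).hom := inferInstanceAs (QuasiCompact (pullback.snd G.hom (GeomTate.σ k K)))
  obtain ⟨n, hn, hst⟩ := exists_stable G
  obtain ⟨m, R, gR, rr, d, hm, hrr, hrrc, hRred, hrrs, hd⟩ := exists_pow_factor_reduced (F.obj G)
  haveI := hrr; haveI := hrrc; haveI := hRred; haveI := hrrs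
  haveI := isMonHom_pow G (n * m)
  obtain ⟨S, gS, π, s, hπ, hs, hπs, hπf, hπsu, hπp, hsc⟩ :=
    AbelianCat.exists_image ((𝟙 G) ^ (n * m) : G ⟶ G) ⟨inferInstance, inferInstance⟩ ⟨inferInstance, inferInstance⟩
  haveI := hπ; haveI := hs; haveI := hπf; haveI := hπsu; haveI := hπp; haveI := hsc
  haveI : Mono s := Over.mono_of_mono_left _
  haveI : IsCommMonObj S := AbelianCat.comm_of_mono s
  haveI : LocallyOfFiniteType S.hom := by rw [← Over.w s]; infer_instance
  haveI : QuasiCompact S.hom := by rw [← Over.w s]; infer_instance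
  haveI : LocallyOfFiniteType (F.obj S).hom :=
    inferInstanceAs (LocallyOfFiniteType (pullback.snd S.hom (GeomTate.σ k K)))
  haveI : QuasiCompact (F.obj S).hom := inferInstanceAs (QuasiCompact (pullback.snd S.hom (GeomTate.σ k K)))
  haveI : IsMonHom (F.map π) := inferInstance
  haveI : IsMonHom (F.map s) := inferInstance
  haveI : IsClosedImmersion (F.map s).left := MorphismProperty.overPullbackMap _ _ inferInstance
  haveI : Mono (F.map s) := Over.mono_of_mono_left _
  haveI : Flat (F.map π).left := MorphismProperty.overPullbackMap _ _ inferInstance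
  haveI : Surjective (F.map π).left := MorphismProperty.overPullbackMap _ _ inferInstance
  haveI : LocallyOfFinitePresentation (F.map π).left := MorphismProperty.overPullbackMap _ _ inferInstance
  have hFπs : F.map π ≫ F.map s = (𝟙 (F.obj G)) ^ (n * m) := by rw [← F.map_comp, hπs, map_pow_bc]
  -- the image of the reduced group
  haveI := isMonHom_pow (F.obj G) n
  haveI : LocallyOfFiniteType R.hom := by rw [← Over.w rr]; infer_instance
  haveI : QuasiCompact R.hom := by rw [← Over.w rr]; infer_instance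
  obtain ⟨I, gI, pI, iI, hpI, hiI, hpIi, hpIf, hpIs, hpIp, hiIc⟩ :=
    AbelianCat.exists_image (rr ≫ ((𝟙 (F.obj G)) ^ n : F.obj G ⟶ F.obj G))
      ⟨inferInstance, inferInstance⟩ ⟨inferInstance, inferInstance⟩
  haveI := hpI; haveI := hiI; haveI := hpIf; haveI := hpIs; haveI := hiIc
  haveI : Mono iI := Over.mono_of_mono_left _
  haveI : IsReduced I.left := H19Grp.isReduced_of_flat_surjective pI.left
  have hfac : (d ≫ pI) ≫ iI = F.map π ≫ F.map s := by
    rw [Category.assoc, hpIi, ← Category.assoc, hd, hFπs, H19Chev.comp_id_pow, ← pow_mul, mul_comm m n]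
  obtain ⟨u, hu, -⟩ := H19Grp.QuotientDesc.existsUnique_desc (F.map π) (d ≫ pI) fun X a b hab => by
    rw [← cancel_mono iI, Category.assoc a, Category.assoc b, hfac, ← Category.assoc, hab, Category.assoc]
  have hui : u ≫ iI = F.map s := H19Chev.cancel_quotient (F.map π) (by rw [← Category.assoc, hu, hfac])
  haveI : IsClosedImmersion u.left := by
    haveI : IsClosedImmersion (u.left ≫ iI.left) := by rw [← Over.comp_left, hui]; infer_instance
    exact IsClosedImmersion.of_comp u.left iI.left
  haveI : Surjective u.left := ⟨fun x => by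
    obtain ⟨r, hr⟩ := pI.left.surjective x
    have h1 : iI.left x ∈ Set.range ((𝟙 (F.obj G)) ^ n : F.obj G ⟶ F.obj G).left := by
      refine ⟨rr.left r, ?_⟩
      rw [← hr, ← Scheme.Hom.comp_apply, ← Scheme.Hom.comp_apply, ← Over.comp_left, ← Over.comp_left, hpIi]
    rw [← map_pow_bc] at h1
    obtain ⟨w, hw⟩ := range_map_subset _ _ (hst m hm).le h1
    rw [map_pow_bc, ← hFπs, ← hui, Over.comp_left, Scheme.Hom.comp_apply, Over.comp_left, Scheme.Hom.comp_apply] at hw
    exact ⟨(F.map π).left w, iI.left.isClosedEmbedding.injective hw⟩⟩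
  haveI : IsIso u.left := isIso_of_isClosedImmersion_of_surjective u.left
  haveI : IsReduced (F.obj S).left := isReduced_of_isOpenImmersion u.left
  haveI : Smooth (F.obj S).hom := H19Grp.smooth_of_isReduced_perfect (F.obj S)
  haveI hSs : Smooth S.hom := by
    haveI : MorphismProperty.DescendsAlong @Smooth H18Descent.fpqc.{u} :=
      inferInstanceAs (MorphismProperty.DescendsAlong @Smooth (@Surjective ⊓ @Flat ⊓ @QuasiCompact))
    exact MorphismProperty.of_pullback_snd_of_descendsAlong (P := @Smooth) (Q := H18Descent.fpqc)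
      (g := GeomTate.σ k K) ⟨⟨inferInstance, inferInstance⟩, inferInstance⟩ ‹_›
  -- divisibility
  have hdiv : ∀ j : ℕ, 0 < j → Surjective ((𝟙 S) ^ j : S ⟶ S).left := fun j hj => ⟨fun z => by
    obtain ⟨g, hg⟩ := π.left.surjective z
    have h1 : s.left z ∈ Set.range ((𝟙 G) ^ (n * m * j) : G ⟶ G).left := by
      rw [_root_.mul_assoc, ← hst (m * j) (Nat.mul_pos hm hj), hst m hm]
      exact ⟨g, by rw [← hπs, Over.comp_left, Scheme.Hom.comp_apply, hg]⟩
    obtain ⟨h, hh⟩ := h1
    refine ⟨π.left h, s.left.isClosedEmbedding.injective (Eq.trans ?_ hh)⟩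
    rw [← Scheme.Hom.comp_apply, ← Scheme.Hom.comp_apply, ← Over.comp_left, ← Over.comp_left,
      H19Chev.id_pow_comp, ← Category.assoc, hπs, H19Chev.comp_id_pow, ← pow_mul]⟩
  haveI hSc : ConnectedSpace S.left := by
    haveI : ConnectedSpace (F.obj S).left := connectedSpace_of_divisible (F.obj S) fun j hj x => by
      haveI := hdiv j hj
      haveI : Surjective ((𝟙 (F.obj S)) ^ j : F.obj S ⟶ F.obj S).left := by
        rw [← map_pow_bc]; exact MorphismProperty.overPullbackMap _ _ inferInstance
      obtain ⟨y, hy⟩ := H19Chev.exists_pt_lift ((𝟙 (F.obj S)) ^ j : F.obj S ⟶ F.obj S) x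
      exact ⟨y, by rw [← hy, H19Chev.comp_id_pow]⟩
    haveI : Surjective (pullback.fst S.hom (GeomTate.σ k K)) :=
      MorphismProperty.pullback_fst (P := @Surjective) _ _ inferInstance
    haveI : ConnectedSpace ↥(pullback S.hom (GeomTate.σ k K)) := ‹ConnectedSpace (F.obj S).left›
    exact (pullback.fst S.hom (GeomTate.σ k K)).surjective.connectedSpace
      (pullback.fst S.hom (GeomTate.σ k K)).continuous
  haveI := hdiv p (Fact.out : p.Prime).pos
  exact ⟨n * m, S, gS, s, π, Nat.mul_pos hn hm, hs, hsc, hπ, hπf, hπsu, hπp, hπs, isSA_of_surjective_pow p S⟩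

end Groth.Agent.H19SemiAb
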