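import Groth.Agent.H19SemiAb.Finite
import Groth.Agent.H19Chev.TorusCriterion

/-!
# Semi-abelian varieties are stable under isogenies
-/

set_option autoImplicit false
set_option linter.style.haveILetI false
set_option backward.isDefEq.respectTransparency false
set_option maxHeartbeats 2000000
set_option synthInstance.maxHeartbeats 400000
universe u

open CategoryTheory CategoryTheory.Limits MonoidalCategory CartesianMonoidalCategory MonObj AlgebraicGeometry
open Groth.Agent Groth.Agent.H25AbCube Groth.Agent.H19Quot

noncomputable section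

namespace Groth.Agent.H19SemiAb

attribute [local instance] Functor.grpObjObj

variable {k : Type u} [Field k]

local notation "Pts" X => 𝟙_ (Over (Spec (CommRingCat.of k))) ⟶ X

/-- A smooth connected group with a finite homomorphism to a semi-abelian variety over an algebraically closed
field, surjective, is semi-abelian. -/
theorem isSA_of_finite_surjective [IsAlgClosed k] (G H : Over (Spec (CommRingCat.of k))) [GrpObj G] [GrpObj H]
    [Smooth G.hom] [QuasiCompact G.hom] [ConnectedSpace G.left] [LocallyOfFiniteType H.hom] [QuasiCompact H.hom]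
    (f : G ⟶ H) [IsMonHom f] [IsFinite f.left] [Surjective f.left] (hH : IsSA H) : IsSA G := by
  haveI : IsNoetherianRing (CommRingCat.of k) := inferInstanceAs (IsNoetherianRing k)
  haveI hHc : IsCommMonObj H := hH.props.2.2
  haveI : IsCommMonObj G := isCommMonObj_of_comm fun X a b => by
    haveI : IsSeparated G.hom := H19Grp.AffineQuotient.isSeparated_of_grp G
    haveI : Smooth (G ⊗ G).hom := H19Grp.PointsDense.smooth_tensor G G
    have key : fst G G * snd G G = snd G G * fst G G := H19Chev.SolvableIsogeny.ext_pts _ _ fun x => by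
      rw [MonObj.comp_mul, MonObj.comp_mul]
      exact H19Chev.IsogenyProperties.comm_pts_of_finite_hom f (fun u v => mul_comm u v) _ _
    calc a * b = lift a b ≫ (fst G G * snd G G) := by rw [MonObj.comp_mul, lift_fst, lift_snd]
      _ = b * a := by rw [key, MonObj.comp_mul, lift_fst, lift_snd]
  obtain ⟨L, gL, l, Q, gQ, q, hl, hlc, hLa, hLs, hLn, hnorm, hq, hqs, hqf, hqp, hk, hQp, hQs, hQn⟩ :=
    H19Chev.exists_chevalley G
  haveI := hl; haveI := hlc; haveI := hLa; haveI := hLs; haveI := hLn
  haveI := hq; haveI := hqs; haveI := hqf; haveI := hqp; haveI := hQp; haveI := hQs; haveI := hQn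
  haveI : Mono l := Over.mono_of_mono_left _
  haveI : IsCommMonObj L := AbelianCat.comm_of_mono l
  haveI : QuasiCompact L.hom := inferInstance
  obtain ⟨T, gT, iT, A, gA, qA, hi, hic, hT, hqA, hqAs, hqAf, hkA, hAp, hAs, hAc⟩ := hH
  haveI := hi; haveI := hic; haveI := hqA; haveI := hqAs; haveI := hqAf; haveI := hAp; haveI := hAs; haveI := hAc
  haveI : Mono iT := Over.mono_of_mono_left _
  haveI : IsCommMonObj T := AbelianCat.comm_of_mono iT
  obtain ⟨hTaff, hTlft⟩ := H26OneMot.torus_affine hT
  haveI := hTlft
  haveI : IsAffine T.left := by haveI := hTaff; exact isAffine_of_isAffineHom T.hom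
  haveI : Smooth T.hom := H21Split.Corad.smooth_torus T hT
  haveI := H19Chev.SemiAb.irreducibleSpace_torus T hT
  haveI : QuasiCompact T.hom := inferInstance
  -- the image of L
  obtain ⟨C, gC, p, i, hp, hiC, hpi, hpf, hps, hpp, hiCc⟩ :=
    AbelianCat.exists_image (l ≫ f) ⟨inferInstance, inferInstance⟩ ⟨inferInstance, inferInstance⟩
  haveI := hp; haveI := hiC; haveI := hpf; haveI := hps; haveI := hpp; haveI := hiCc
  haveI : Mono i := Over.mono_of_mono_left _
  haveI : LocallyOfFiniteType C.hom := by rw [← Over.w i]; infer_instance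
  haveI : QuasiCompact C.hom := by rw [← Over.w i]; infer_instance
  haveI : IsAffine C.left := H19Grp.AffineQuotient.isAffine_of_flat_surjective L C p
  obtain ⟨hCs, hCn⟩ := H19Chev.smooth_connected_quotient p
  haveI := hCs; haveI := hCn
  obtain ⟨c', hc'⟩ := H19Grp.kernel_lift hkA i (H19Chev.eq_one_of_affine_to_proper (i ≫ qA))
  -- the cokernel of the image is proper
  obtain ⟨B, gB, c, hc, hBc, hBft, hcf, hcs, hcp, hkc⟩ := AbelianCat.exists_cokernel i ⟨inferInstance, inferInstance⟩
  haveI := hc; haveI := hcf; haveI := hcs; haveI := hcp; haveI := hBft.lft; haveI := hBft.qc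
  have hlfc : l ≫ f ≫ c = 1 := by
    rw [← Category.assoc, ← hpi, Category.assoc, H19Grp.kernel_comp_eq_one hkc, MonObj.comp_one]
  obtain ⟨χ, hχ, -⟩ := H19Grp.QuotientDesc.existsUnique_desc q (f ≫ c) fun X a b hab => by
    obtain ⟨z, hz⟩ := H19Grp.kernel_lift hk (a * b⁻¹) (by
      rw [MonObj.mul_comp, GrpObj.inv_comp, hab, mul_inv_cancel])
    have h1 : (a * b⁻¹) ≫ f ≫ c = 1 := by rw [← hz, Category.assoc, hlfc, MonObj.comp_one]
    rwa [MonObj.mul_comp, GrpObj.inv_comp, mul_inv_eq_one] at h1
  haveI : IsProper B.hom := by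
    haveI : Surjective (q.left ≫ χ.left) := by rw [← Over.comp_left, hχ, Over.comp_left]; infer_instance
    haveI : Surjective χ.left := Surjective.of_comp q.left χ.left
    haveI : UniversallyClosed (χ.left ≫ B.hom) := by rw [Over.w χ]; infer_instance
    haveI : UniversallyClosed B.hom := UniversallyClosed.of_comp_surjective χ.left _
    haveI : IsSeparated B.hom := H19Grp.AffineQuotient.isSeparated_of_grp _
    exact {}
  obtain ⟨t, ht⟩ := H19Grp.kernel_lift hkc iT (H19Chev.eq_one_of_affine_to_proper (iT ≫ c))
  haveI : IsIso c' := ⟨t, by rw [← cancel_mono i, Category.assoc, ht, hc', Category.id_comp],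
    by rw [← cancel_mono iT, Category.assoc, hc', ht, Category.id_comp]⟩
  haveI : IsMonHom (c' ≫ iT) := hc' ▸ hiC
  haveI : IsMonHom c' := H19Chev.isMonHom_of_mono c' iT
  haveI : IsIso c'.left := inferInstanceAs (IsIso ((Over.forget _).map c'))
  have hfac : (p ≫ c') ≫ iT = l ≫ f := by rw [Category.assoc, hc', hpi]
  haveI : Surjective (p ≫ c').left := by rw [Over.comp_left]; infer_instance
  haveI : IsFinite (p ≫ c').left := by
    haveI : IsFinite ((p ≫ c').left ≫ iT.left) := by rw [← Over.comp_left, hfac, Over.comp_left]; infer_instance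
    exact IsFinite.of_comp _ iT.left
  have hTL : Red.IsTorus L := by
    refine (H19Chev.TorusCriterion.isTorus_iff_of_isogeny L T (p ≫ c') ⟨inferInstance, fun N i' hi' => ?_⟩).2 hT
    haveI : IsFinite (toUnit N).left :=
      MorphismProperty.of_isPullback (P := @IsFinite) (Over.forget _ |>.map_isPullback hi') ‹IsFinite (p ≫ c').left›
    rwa [show (toUnit N).left = N.hom from (Category.comp_id _).symm.trans (Over.w (toUnit N))] at this
  exact ⟨L, gL, l, Q, gQ, q, hl, hlc, hTL, hq, hqs, hqf, hk, hQp, hQs, hQn⟩

/-- A smooth connected group isogenous onto a semi-abelian variety is semi-abelian. -/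
theorem isSA_of_isogeny (G H : Over (Spec (CommRingCat.of k))) [GrpObj G] [GrpObj H]
    [Smooth G.hom] [QuasiCompact G.hom] [ConnectedSpace G.left] [LocallyOfFiniteType H.hom] [QuasiCompact H.hom]
    (f : G ⟶ H) [IsMonHom f] (hf : SGA7.IsIsogenyOver f) (hH : IsSA H) : IsSA G := by
  let K := AlgebraicClosure k
  let F := GeomTate.bc k K
  haveI := GeomTate.surjective_σ k K
  haveI : Smooth (F.obj G).hom := inferInstanceAs (Smooth (pullback.snd G.hom (GeomTate.σ k K)))
  haveI : QuasiCompact (F.obj G).hom := inferInstanceAs (QuasiCompact (pullback.snd G.hom (GeomTate.σ k K)))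
  haveI : GeometricallyConnected G.hom :=
    H28NT.geometricallyConnected_of_section G.hom η[G].left (Over.w η[G])
  haveI : ConnectedSpace (F.obj G).left := inferInstanceAs (ConnectedSpace ↥(pullback G.hom (GeomTate.σ k K)))
  haveI : LocallyOfFiniteType (F.obj H).hom :=
    inferInstanceAs (LocallyOfFiniteType (pullback.snd H.hom (GeomTate.σ k K)))
  haveI : QuasiCompact (F.obj H).hom := inferInstanceAs (QuasiCompact (pullback.snd H.hom (GeomTate.σ k K)))
  haveI : IsMonHom (F.map f) := inferInstance
  haveI := hf.1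
  haveI : Surjective (F.map f).left := MorphismProperty.overPullbackMap _ _ inferInstance
  haveI : IsFinite (F.map f).left := H19Chev.TorusCriterion.isFinite_bc_of_isogeny G H f hf
  exact isSA_of_bc G (isSA_of_finite_surjective (F.obj G) (F.obj H) (F.map f) hH.bc)

end Groth.Agent.H19SemiAb
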