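import Groth.Agent.H19SemiAb.Ext
import Groth.Agent.H25Grp.Isogeny
import Groth.Agent.H25LargeAlb.TorusUnit
import Groth.Agent.H19Chev.IdComp

/-!
# The largest semi-abelian subvariety
-/

set_option autoImplicit false
set_option linter.style.haveILetI false
set_option backward.isDefEq.respectTransparency false
set_option maxHeartbeats 2000000
set_option synthInstance.maxHeartbeats 400000
universe u

open CategoryTheory CategoryTheory.Limits MonoidalCategory CartesianMonoidalCategory MonObj AlgebraicGeometry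
open Groth.Agent Groth.Agent.H25AbCube Groth.Agent.H19Quot

noncomputable section

namespace Groth.Agent.H19SemiAb

attribute [local instance] Functor.grpObjObj

variable {k : Type u} [Field k]

/-- The trivial group is semi-abelian. -/
theorem isSA_unit : IsSA (𝟙_ (Over (Spec (CommRingCat.of k)))) := by
  haveI : IsProper (𝟙_ (Over (Spec (CommRingCat.of k)))).hom := inferInstanceAs (IsProper (𝟙 _))
  haveI : Smooth (𝟙_ (Over (Spec (CommRingCat.of k)))).hom := inferInstanceAs (Smooth (𝟙 _))
  haveI : Flat (𝟙 (𝟙_ (Over (Spec (CommRingCat.of k)))) : 𝟙_ (Over (Spec (CommRingCat.of k))) ⟶ 𝟙_ _).left := inferInstanceAs (Flat (𝟙 _))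
  haveI : Surjective (𝟙 (𝟙_ (Over (Spec (CommRingCat.of k)))) : 𝟙_ (Over (Spec (CommRingCat.of k))) ⟶ 𝟙_ _).left := inferInstanceAs (Surjective (𝟙 _))
  haveI : IsClosedImmersion (𝟙 (𝟙_ (Over (Spec (CommRingCat.of k)))) : 𝟙_ (Over (Spec (CommRingCat.of k))) ⟶ 𝟙_ _).left :=
    inferInstanceAs (IsClosedImmersion (𝟙 _))
  haveI : ConnectedSpace ↥(𝟙_ (Over (Spec (CommRingCat.of k)))).left :=
    inferInstanceAs (ConnectedSpace (PrimeSpectrum k))
  exact ⟨𝟙_ _, inferInstance, 𝟙 _, 𝟙_ _, inferInstance, 𝟙 _, inferInstance, inferInstance,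
    H25LargeAlb.isTorus_unit, inferInstance, inferInstance, inferInstance,
    H19Grp.isKernel_of (toUnit_unique _ _) (fun T a b _ => toUnit_unique _ _)
      (fun T x _ => ⟨toUnit T, toUnit_unique _ _⟩), inferInstance, inferInstance, inferInstance⟩

/-- A semi-abelian closed subgroup of a maximal-dimensional quotient is trivial. -/
theorem eq_one_of_max {G S Q S'' : Over (Spec (CommRingCat.of k))} [GrpObj G] [GrpObj S] [GrpObj Q] [GrpObj S'']
    [IsCommMonObj G] [LocallyOfFiniteType G.hom] [QuasiCompact G.hom] [LocallyOfFiniteType Q.hom] [QuasiCompact Q.hom]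
    (s : S ⟶ G) [IsMonHom s] [IsClosedImmersion s.left] (hS : IsSA S)
    (hmax : ∀ (E : Over (Spec (CommRingCat.of k))) [GrpObj E] (e : E ⟶ G) [IsMonHom e] [IsClosedImmersion e.left],
      IsSA E → topologicalKrullDim E.left ≤ topologicalKrullDim S.left)
    (q : G ⟶ Q) [IsMonHom q] [Surjective q.left] [Flat q.left] (hk : AlgGrp.IsKernel s q)
    (s'' : S'' ⟶ Q) [IsMonHom s''] [IsClosedImmersion s''.left] (hS'' : IsSA S'') : s'' = 1 := by
  haveI : IsNoetherianRing (CommRingCat.of k) := inferInstanceAs (IsNoetherianRing k)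
  obtain ⟨hlft, hqc, hlfp⟩ := AbelianCat.props_hom q ⟨inferInstance, inferInstance⟩ ⟨inferInstance, inferInstance⟩
  haveI := hlfp
  haveI : IsCommMonObj Q := H19Chev.isCommMonObj_of_quotient q
  haveI : Mono s := Over.mono_of_mono_left _
  haveI : Mono s'' := Over.mono_of_mono_left _
  haveI : LocallyOfFiniteType S.hom := by rw [← Over.w s]; infer_instance
  haveI : QuasiCompact S.hom := by rw [← Over.w s]; infer_instance
  haveI : LocallyOfFiniteType S''.hom := by rw [← Over.w s'']; infer_instance
  haveI : QuasiCompact S''.hom := by rw [← Over.w s'']; infer_instance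
  obtain ⟨D, gD, d, hd, hDc, hDft, hdf, hds, hdp, hkd⟩ :=
    AbelianCat.exists_cokernel s'' ⟨inferInstance, inferInstance⟩
  haveI := hd; haveI := hDft.lft
  haveI : IsSeparated D.hom := H19Grp.AffineQuotient.isSeparated_of_grp D
  obtain ⟨E, gE, e, he, hec, hkE⟩ := H19Grp.AffineQuotient.exists_kernel (q ≫ d)
  haveI := he; haveI := hec
  haveI : Mono e := Over.mono_of_mono_left _
  haveI : IsCommMonObj E := AbelianCat.comm_of_mono e
  haveI : LocallyOfFiniteType E.hom := by rw [← Over.w e]; infer_instance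
  haveI : QuasiCompact E.hom := by rw [← Over.w e]; infer_instance
  obtain ⟨cE, hcE⟩ := H19Grp.kernel_lift hkd (e ≫ q) (by rw [Category.assoc]; exact H19Grp.kernel_comp_eq_one hkE)
  haveI : IsMonHom (cE ≫ s'') := hcE ▸ (inferInstance : IsMonHom (e ≫ q))
  haveI : IsMonHom cE := H19Chev.isMonHom_of_mono cE s''
  have hlift : ∀ c : PullbackCone q s'', ∃ y : c.pt ⟶ E, y ≫ e = c.fst := fun c => H19Grp.kernel_lift hkE c.fst (by
    rw [← Category.assoc, c.condition, Category.assoc, H19Grp.kernel_comp_eq_one hkd, MonObj.comp_one])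
  choose y hy using hlift
  have hsq : IsPullback e cE q s'' := by
    refine IsPullback.of_isLimit' ⟨hcE.symm⟩ (PullbackCone.IsLimit.mk _ y hy (fun c => ?_) (fun c m hm _ => ?_))
    · rw [← cancel_mono s'', Category.assoc, hcE, ← Category.assoc, hy, c.condition]
    · rw [← cancel_mono e, hm, hy]
  have hsq' := hsq.map (Over.forget _)
  haveI : Flat cE.left := MorphismProperty.of_isPullback (P := @Flat) hsq' ‹Flat q.left›
  haveI : Surjective cE.left := MorphismProperty.of_isPullback (P := @Surjective) hsq' ‹Surjective q.left›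
  obtain ⟨sE, hsE⟩ := H19Grp.kernel_lift hkE s (by
    rw [← Category.assoc, H19Grp.kernel_comp_eq_one hk, MonObj.one_comp])
  haveI : IsMonHom (sE ≫ e) := hsE ▸ (inferInstance : IsMonHom s)
  haveI : IsMonHom sE := H19Chev.isMonHom_of_mono sE e
  haveI : IsClosedImmersion sE.left := by
    haveI : IsClosedImmersion (sE.left ≫ e.left) := by rw [← Over.comp_left, hsE]; infer_instance
    exact IsClosedImmersion.of_comp sE.left e.left
  have hsc : sE ≫ cE = 1 := by
    rw [← cancel_mono s'', Category.assoc, hcE, ← Category.assoc, hsE, H19Grp.kernel_comp_eq_one hk, MonObj.one_comp]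
  have hkE' : AlgGrp.IsKernel sE cE := H19Grp.isKernel_of hsc
    (fun T a b h => by rw [← cancel_mono s, ← hsE, ← Category.assoc, h, Category.assoc])
    (fun T x hx => by
      obtain ⟨y, hy⟩ := H19Grp.kernel_lift hk (x ≫ e) (by
        rw [Category.assoc, ← hcE, ← Category.assoc, hx, MonObj.one_comp])
      exact ⟨y, by rw [← cancel_mono e, Category.assoc, hsE, hy]⟩)
  have hE : IsSA E := isSA_of_extension sE cE hkE' hS hS''
  -- equal dimensions
  obtain ⟨hSs, hSn, -⟩ := hS.props
  obtain ⟨hEs, hEn, -⟩ := hE.props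
  haveI := hSs; haveI := hSn; haveI := hEs; haveI := hEn
  haveI : GeometricallyConnected S.hom :=
    H28NT.geometricallyConnected_of_section S.hom η[S].left (Over.w η[S])
  haveI : GeometricallyConnected E.hom :=
    H28NT.geometricallyConnected_of_section E.hom η[E].left (Over.w η[E])
  haveI : IrreducibleSpace S.left := H25Grp.irreducibleSpace_group
  haveI : IrreducibleSpace E.left := H25Grp.irreducibleSpace_group
  have hdim : topologicalKrullDim S.left = topologicalKrullDim E.left :=
    le_antisymm sE.left.isClosedEmbedding.isInducing.topologicalKrullDim_le (hmax E e hE)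
  haveI : Surjective sE.left := H25Grp.surjective_of_finite S.hom E.hom sE.left hdim
  haveI : IsReduced E.left := H19Chev.isReduced_smooth
  haveI : IsIso sE.left := isIso_of_isClosedImmersion_of_surjective sE.left
  haveI : IsIso ((Over.forget _).map sE) := ‹IsIso sE.left›
  haveI : IsIso sE := isIso_of_reflects_iso sE (Over.forget _)
  have hcE1 : cE = 1 := by rw [← cancel_epi sE, hsc, MonObj.comp_one]
  haveI : Surjective ((1 : E ⟶ S'').left) := hcE1 ▸ ‹Surjective cE.left›
  haveI : LocallyOfFinitePresentation cE.left :=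
    (AbelianCat.props_hom cE ⟨inferInstance, inferInstance⟩ ⟨inferInstance, inferInstance⟩).2.2
  refine H19Chev.cancel_quotient cE ?_
  rw [MonObj.comp_one, hcE1, MonObj.one_comp]

/-- The largest semi-abelian subvariety of a commutative group. -/
theorem exists_largest (G : Over (Spec (CommRingCat.of k))) [GrpObj G]
    [IsCommMonObj G] [LocallyOfFiniteType G.hom] [QuasiCompact G.hom] :
    ∃ (S : Over (Spec (CommRingCat.of k))) (_ : GrpObj S) (s : S ⟶ G), IsMonHom s ∧ IsClosedImmersion s.left ∧ IsSA S ∧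
      ∀ (E : Over (Spec (CommRingCat.of k))) [GrpObj E] (e : E ⟶ G) [IsMonHom e] [IsClosedImmersion e.left],
        IsSA E → topologicalKrullDim E.left ≤ topologicalKrullDim S.left := by
  classical
  obtain ⟨L, gL, j, hj, hjc, hjo, hLc, hLl, hLq, h1⟩ := H19Chev.exists_open_idComp G
  haveI := hj; haveI := hjc; haveI := hjo; haveI := hLc; haveI := hLl; haveI := hLq
  haveI : GeometricallyConnected L.hom :=
    H28NT.geometricallyConnected_of_section L.hom η[L].left (Over.w η[L])
  haveI : IrreducibleSpace L.left := H25Grp.irreducibleSpace_group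
  obtain ⟨N, hN⟩ := H25Grp.exists_nat_dim L.hom
  have hbd : ∀ (E : Over (Spec (CommRingCat.of k))) [GrpObj E] (e : E ⟶ G) [IsMonHom e] [IsClosedImmersion e.left],
      IsSA E → ∃ d : ℕ, topologicalKrullDim E.left = d ∧ d ≤ N := fun E gE e he hec hE => by
    haveI : LocallyOfFiniteType E.hom := by rw [← Over.w e]; infer_instance
    haveI : QuasiCompact E.hom := by rw [← Over.w e]; infer_instance
    obtain ⟨hEs, hEn, -⟩ := hE.props
    haveI := hEs; haveI := hEn
    haveI : GeometricallyConnected E.hom :=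
      H28NT.geometricallyConnected_of_section E.hom η[E].left (Over.w η[E])
    haveI : IrreducibleSpace E.left := H25Grp.irreducibleSpace_group
    obtain ⟨d, hd⟩ := H25Grp.exists_nat_dim E.hom
    refine ⟨d, hd, ?_⟩
    let pt : ↥(𝟙_ (Over (Spec (CommRingCat.of k)))).left := IsLocalRing.closedPoint k
    obtain ⟨x, hx⟩ := h1
    have hsub : Set.range e.left ⊆ Set.range j.left := by
      have hmem : Stab.pnt (1 : 𝟙_ (Over (Spec (CommRingCat.of k))) ⟶ G) ∈ Set.range e.left :=
        ⟨Stab.pnt (1 : 𝟙_ (Over (Spec (CommRingCat.of k))) ⟶ E), by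
          show e.left ((1 : 𝟙_ _ ⟶ E).left _) = _
          rw [← Scheme.Hom.comp_apply, ← Over.comp_left, MonObj.one_comp]⟩
      refine (isConnected_range e.left.continuous).isPreconnected.subset_isClopen
        ⟨j.left.isClosedEmbedding.isClosed_range, j.left.isOpenEmbedding.isOpen_range⟩ ⟨_, hmem, ⟨x, hx⟩⟩
    let u := IsOpenImmersion.lift j.left e.left hsub
    haveI : IsClosedImmersion u := by
      haveI : IsClosedImmersion (u ≫ j.left) := by rw [IsOpenImmersion.lift_fac]; infer_instance
      exact IsClosedImmersion.of_comp u j.left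
    have hle := u.isClosedEmbedding.isInducing.topologicalKrullDim_le
    rw [hd, hN] at hle
    exact_mod_cast hle
  let P : ℕ → Prop := fun d => ∃ (S : Over (Spec (CommRingCat.of k))) (_ : GrpObj S) (s : S ⟶ G),
    IsMonHom s ∧ IsClosedImmersion s.left ∧ IsSA S ∧ topologicalKrullDim S.left = d
  haveI : IsSeparated G.hom := H19Grp.AffineQuotient.isSeparated_of_grp G
  haveI : Subsingleton (𝟙_ (Over (Spec (CommRingCat.of k)))).left := inferInstanceAs (Subsingleton (PrimeSpectrum k))
  haveI : IsClosedImmersion η[G].left := isClosedImmersion_of_comp_eq_id _ _ (Over.w η[G])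
  obtain ⟨d₀, hd₀, hd₀N⟩ := hbd _ η[G] isSA_unit
  have hP₀ : P d₀ := ⟨_, inferInstance, η[G], inferInstance, inferInstance, isSA_unit, hd₀⟩
  obtain ⟨S, gS, s, hs, hsc, hS, hdS⟩ : P (Nat.findGreatest P N) := Nat.findGreatest_spec hd₀N hP₀
  refine ⟨S, gS, s, hs, hsc, hS, fun E gE e he hec hE => ?_⟩
  haveI := he; haveI := hec
  obtain ⟨d, hd, hdN⟩ := hbd E e hE
  rw [hd, hdS]
  exact_mod_cast Nat.le_findGreatest hdN (⟨E, gE, e, he, hec, hE, hd⟩ : P d)

end Groth.Agent.H19SemiAb
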