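import Groth.Agent.H19SemiAb.Isogeny
import Groth.Agent.H21Hom.ExtensionMult
import Groth.Agent.H21Aff.Part

/-!
# Quotients of tori and of semi-abelian varieties, extensions of tori
-/

set_option autoImplicit false
set_option linter.style.haveILetI false
set_option backward.isDefEq.respectTransparency false
set_option maxHeartbeats 2000000
set_option synthInstance.maxHeartbeats 400000
universe u

open CategoryTheory CategoryTheory.Limits MonoidalCategory CartesianMonoidalCategory MonObj AlgebraicGeometry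
open Groth.Agent Groth.Agent.H25AbCube Groth.Agent.H19Quot
open scoped TensorProduct

noncomputable section

namespace Groth.Agent.H19SemiAb

attribute [local instance] Functor.grpObjObj

variable {k : Type u} [Field k]

/-- A torus over a field is affine, smooth, connected and commutative. -/
theorem torus_props (T : Over (Spec (CommRingCat.of k))) [GrpObj T] (hT : Red.IsTorus T) :
    IsAffine T.left ∧ Smooth T.hom ∧ ConnectedSpace T.left ∧ IsCommMonObj T := by
  let K := AlgebraicClosure k
  obtain ⟨-, -, hc⟩ := H21Aff.torus_props ((GeomTate.bc k K).obj T) (H21Diag.isTorus_bc hT (GeomTate.σ k K))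
  haveI := GeomTate.surjective_σ k K
  haveI : Surjective (pullback.fst T.hom (GeomTate.σ k K)) :=
    MorphismProperty.pullback_fst (P := @Surjective) _ _ inferInstance
  haveI : ConnectedSpace ↥(pullback T.hom (GeomTate.σ k K)) := hc
  haveI := GeomTate.flat_σ k K
  haveI : IsAffineHom T.hom := H21Diag.isAffineHom_of_multTypeFT (H21Diag.isMultTypeFT_of_isTorus hT)
  haveI hs : Smooth T.hom := by
    haveI : MorphismProperty.DescendsAlong @Smooth H18Descent.fpqc.{u} :=
      inferInstanceAs (MorphismProperty.DescendsAlong @Smooth (@Surjective ⊓ @Flat ⊓ @QuasiCompact))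
    exact MorphismProperty.of_pullback_snd_of_descendsAlong (P := @Smooth) (Q := H18Descent.fpqc)
      (g := GeomTate.σ k K) ⟨⟨inferInstance, inferInstance⟩, inferInstance⟩
      (H21Split.Corad.smooth_torus ((GeomTate.bc k K).obj T) (H21Diag.isTorus_bc hT (GeomTate.σ k K)))
  refine ⟨isAffine_of_isAffineHom T.hom, hs, (pullback.fst T.hom (GeomTate.σ k K)).surjective.connectedSpace
      (pullback.fst T.hom (GeomTate.σ k K)).continuous,
    isCommMonObj_of_comm fun X f g => H21Rank1.isTorus_comm hT f g⟩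

/-- A smooth connected affine commutative group covered by a torus is a torus. -/
theorem isTorus_of_surjective (T C : Over (Spec (CommRingCat.of k))) [GrpObj T] [GrpObj C]
    [IsCommMonObj C] [Smooth C.hom] [ConnectedSpace C.left] [IsAffine C.left] [IsCommMonObj T]
    (hT : Red.IsTorus T) [ConnectedSpace T.left] [IsAffine T.left] [Smooth T.hom]
    (f : T ⟶ C) [IsMonHom f] [Surjective f.left] : Red.IsTorus C := by
  let K := AlgebraicClosure k
  let F := GeomTate.bc k K
  obtain ⟨A', _, _, _, _, _, ⟨e'⟩⟩ := H19Chev.TorusCriterion.exists_model T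
  obtain ⟨A, _, _, _, _, _, ⟨e₀⟩⟩ := H19Chev.TorusCriterion.exists_model C
  refine (H19Chev.TorusCriterion.isTorus_iff_isDiag C e₀).2 ?_
  have hD := (H19Chev.TorusCriterion.isTorus_iff_isDiag T e').1 hT
  let fK := F.map f
  haveI : Surjective fK.left := MorphismProperty.overPullbackMap _ _ inferInstance
  let g : H21Hom.specGrp K A' ⟶ H21Hom.specGrp K A := e'.inv.hom.hom ≫ fK ≫ e₀.hom.hom.hom
  haveI : IsMonHom fK := inferInstance
  haveI : IsMonHom g := inferInstanceAs (IsMonHom (e'.inv.hom.hom ≫ fK ≫ e₀.hom.hom.hom))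
  haveI : IsIso e'.inv.hom.hom.left :=
    inferInstanceAs (IsIso ((Grp.forget _ ⋙ Over.forget _).map e'.inv))
  haveI : IsIso e₀.hom.hom.hom.left :=
    inferInstanceAs (IsIso ((Grp.forget _ ⋙ Over.forget _).map e₀.hom))
  obtain ⟨φ, hφ⟩ := H21Hom.exists_bialgHom_of_hom g
  haveI hgs : Surjective (Spec.map (CommRingCat.ofHom (φ : A →ₐ[K] A').toRingHom)) := by
    rw [← hφ]; show Surjective (e'.inv.hom.hom.left ≫ fK.left ≫ e₀.hom.hom.hom.left); infer_instance
  refine H19Chev.TorusCriterion.isDiag_of_uni_scalar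
    (H19Chev.TorusCriterion.uni_scalar_of_injective φ ?_
      fun b hb => H19Chev.TorusCriterion.uni_scalar_of_isDiag hD hb)
  refine (injective_iff_map_eq_zero _).2 fun x hx => ?_
  refine IsNilpotent.eq_zero ?_
  rw [← mem_nilradical, nilradical_eq_sInf, Submodule.mem_sInf]
  intro p hp
  obtain ⟨q, hq⟩ := hgs.surj ⟨p, hp⟩
  have : p = Ideal.comap (φ : A →ₐ[K] A').toRingHom q.asIdeal := congrArg PrimeSpectrum.asIdeal hq.symm
  rw [this, Ideal.mem_comap]
  show φ x ∈ q.asIdeal
  rw [hx]
  exact zero_mem _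

/-- A smooth connected affine commutative extension of a torus by a torus is a torus. -/
theorem isTorus_of_extension (L T₁ T₂ : Over (Spec (CommRingCat.of k))) [GrpObj L] [GrpObj T₁] [GrpObj T₂]
    [IsCommMonObj L] [Smooth L.hom] [ConnectedSpace L.left] [IsAffine L.left]
    (i : T₁ ⟶ L) [IsMonHom i] (p : L ⟶ T₂) [IsMonHom p] [Surjective p.left] [Flat p.left]
    (hk : AlgGrp.IsKernel i p) (h₁ : Red.IsTorus T₁) (h₂ : Red.IsTorus T₂) : Red.IsTorus L := by
  let K := AlgebraicClosure k
  haveI : IsNoetherianRing (CommRingCat.of k) := inferInstanceAs (IsNoetherianRing k)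
  haveI : LocallyOfFinitePresentation L.hom := inferInstance
  haveI : IsAffineHom L.hom := inferInstance
  obtain ⟨A, _, _, _, _, _, ⟨e₀⟩⟩ := H19Chev.TorusCriterion.exists_model L
  refine (H19Chev.TorusCriterion.isTorus_iff_isDiag L e₀).2 ?_
  obtain ⟨C, A', A'', _, _, _, _, _, _, π, ψ, ⟨eC⟩, hcc, -, -, h', -, h'', hfl, hsj, hkp⟩ :=
    H21Hom.exists_algebra_data (R := K) p i hk (H21Diag.isMultTypeFT_of_isTorus h₁)
      (H21Diag.isMultTypeFT_of_isTorus h₂) (fun a b => mul_comm a b)
      (Spec.map (CommRingCat.ofHom (algebraMap k K)))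
  haveI := hcc
  obtain ⟨E⟩ := H21Hom.nonempty_bialgEquiv_of_iso (eC.symm ≪≫ e₀)
  refine H19Chev.CoradSplit.isDiag_of_isDiagonalizable (H20Comod.isDiagonalizable_of_forall_primitive fun f hf => ?_)
  have h := H21Hom.no_primitive_of_extension h' h'' π ψ hfl hsj hkp
  have hf' : CoalgebraStruct.comul (R := K) (E f) = E f ⊗ₜ[K] (1 : C) + (1 : C) ⊗ₜ[K] E f := by
    rw [← CoalgHomClass.map_comp_comul_apply, hf, map_add]
    show E f ⊗ₜ[K] E 1 + E 1 ⊗ₜ[K] E f = _
    rw [map_one]
  simpa using h (E f) hf'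

local notation "Sch" => Over (Spec (CommRingCat.of k))

/-- A smooth quotient of a semi-abelian variety is semi-abelian. -/
theorem IsSA.of_surjective {G Q : Over (Spec (CommRingCat.of k))} [GrpObj G] [GrpObj Q] (h : IsSA G)
    [LocallyOfFiniteType G.hom] [QuasiCompact G.hom] [LocallyOfFiniteType Q.hom] [QuasiCompact Q.hom]
    (q : G ⟶ Q) [IsMonHom q] [Surjective q.left] [Flat q.left] [LocallyOfFinitePresentation q.left] : IsSA Q := by
  haveI : IsNoetherianRing (CommRingCat.of k) := inferInstanceAs (IsNoetherianRing k)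
  obtain ⟨hGs, hGn, hGc⟩ := h.props
  haveI := hGs; haveI := hGn; haveI := hGc
  haveI : IsCommMonObj Q := H19Chev.isCommMonObj_of_quotient q
  obtain ⟨hQs, hQn⟩ := H19Chev.smooth_connected_quotient q
  haveI := hQs; haveI := hQn
  obtain ⟨T, gT, iT, A, gA, qA, hi, hic, hT, hqA, hqAs, hqAf, hkA, hAp, hAs, hAc⟩ := h
  haveI := hi; haveI := hic; haveI := hqA; haveI := hqAs; haveI := hqAf; haveI := hAp; haveI := hAs; haveI := hAc
  haveI : Mono iT := Over.mono_of_mono_left _
  obtain ⟨hTaff, hTs, hTn, hTc⟩ := torus_props T hT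
  haveI := hTaff; haveI := hTs; haveI := hTn; haveI := hTc
  haveI : QuasiCompact T.hom := inferInstance
  obtain ⟨C, gC, p, i, hp, hiC, hpi, hpf, hps, hpp, hiCc⟩ :=
    AbelianCat.exists_image (iT ≫ q) ⟨inferInstance, inferInstance⟩ ⟨inferInstance, inferInstance⟩
  haveI := hp; haveI := hiC; haveI := hpf; haveI := hps; haveI := hpp; haveI := hiCc
  haveI : Mono i := Over.mono_of_mono_left _
  haveI : IsCommMonObj C := AbelianCat.comm_of_mono i
  haveI : LocallyOfFiniteType C.hom := by rw [← Over.w i]; infer_instance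
  haveI : QuasiCompact C.hom := by rw [← Over.w i]; infer_instance
  haveI : IsAffine C.left := H19Grp.AffineQuotient.isAffine_of_flat_surjective T C p
  obtain ⟨hCs, hCn⟩ := H19Chev.smooth_connected_quotient p
  haveI := hCs; haveI := hCn
  obtain ⟨B, gB, c, hc, hBc, hBft, hcf, hcs, hcp, hkc⟩ := AbelianCat.exists_cokernel i ⟨inferInstance, inferInstance⟩
  haveI := hc; haveI := hcf; haveI := hcs; haveI := hcp; haveI := hBft.lft; haveI := hBft.qc
  have hT1 : iT ≫ q ≫ c = 1 := by
    rw [← Category.assoc, ← hpi, Category.assoc, H19Grp.kernel_comp_eq_one hkc, MonObj.comp_one]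
  haveI : LocallyOfFinitePresentation qA.left :=
    (AbelianCat.props_hom qA ⟨inferInstance, inferInstance⟩ ⟨inferInstance, inferInstance⟩).2.2
  obtain ⟨χ, hχ, -⟩ := H19Grp.QuotientDesc.existsUnique_desc qA (q ≫ c) fun X a b hab => by
    obtain ⟨z, hz⟩ := H19Grp.kernel_lift hkA (a * b⁻¹) (by
      rw [MonObj.mul_comp, GrpObj.inv_comp, hab, mul_inv_cancel])
    have h1 : (a * b⁻¹) ≫ q ≫ c = 1 := by rw [← hz, Category.assoc, hT1, MonObj.comp_one]
    rwa [MonObj.mul_comp, GrpObj.inv_comp, mul_inv_eq_one] at h1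
  haveI : IsProper B.hom := by
    haveI : Surjective (qA.left ≫ χ.left) := by rw [← Over.comp_left, hχ, Over.comp_left]; infer_instance
    haveI : Surjective χ.left := Surjective.of_comp qA.left χ.left
    haveI : UniversallyClosed (χ.left ≫ B.hom) := by rw [Over.w χ]; infer_instance
    haveI : UniversallyClosed B.hom := UniversallyClosed.of_comp_surjective χ.left _
    haveI : IsSeparated B.hom := H19Grp.AffineQuotient.isSeparated_of_grp _
    exact {}
  exact ⟨C, gC, i, B, gB, c, hiC, hiCc, isTorus_of_surjective T C hT p, hc, hcs, hcf, hkc, inferInstance,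
    (H19Chev.smooth_connected_quotient c).1, (H19Chev.smooth_connected_quotient c).2⟩

end Groth.Agent.H19SemiAb
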